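import Groth.Agent.Nrm34.GrMap
import Groth.Agent.S9386
import Mathlib.Algebra.Homology.ShortComplex.Exact

/-!
# Differentials of a composite and of a fibre product
-/

set_option autoImplicit false
set_option linter.style.haveILetI false

universe u

open CategoryTheory CategoryTheory.Limits AlgebraicGeometry TopologicalSpace Opposite

namespace Groth.Agent.Nrm34

section Basic

variable {X Y : Scheme.{u}} {f : X ⟶ Y}

theorem pullbackId_inv_app {M : X.Modules} (U : X.Opens) (m : Γ(M, U)) :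
    ((Scheme.Modules.pullbackId X).inv.app M).app U m = OmegaSh.pullSect (𝟙 X) M U m := by
  have h := unit_conjugateEquiv (Adjunction.id (C := X.Modules))
    (Scheme.Modules.pullbackPushforwardAdjunction (𝟙 X)) (Scheme.Modules.pullbackId X).hom M
  rw [Scheme.Modules.conjugateEquiv_pullbackId_hom] at h
  have h1 : m = ((Scheme.Modules.pullbackId X).hom.app M).app U (OmegaSh.pullSect (𝟙 X) M U m) :=
    congrArg (fun k => Scheme.Modules.Hom.app k U m) h
  conv_lhs => rw [h1]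
  exact congrArg (fun k => Scheme.Modules.Hom.app k U (OmegaSh.pullSect (𝟙 X) M U m))
    ((Scheme.Modules.pullbackId X).hom_inv_id_app M)

theorem hom_ext_univ {Ω : X.Modules} {d : OmegaSh.Der f Ω} (hd : OmegaSh.IsUniversal d)
    {T : X.Modules} {α β : Ω ⟶ T}
    (h : ∀ (U : X.Opens) (s : Γ(X, U)), α.app U (d.app U s) = β.app U (d.app U s)) : α = β := by
  obtain ⟨γ, -, hu⟩ := hd T (d.postcomp α.val)
  rw [hu α rfl, hu β ?_]
  refine PresheafOfModules.Derivation.ext ?_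
  funext U
  exact AddMonoidHom.ext fun s => (h U.unop s).symm

theorem exists_lift_univ {Ω : X.Modules} {d : OmegaSh.Der f Ω} (hd : OmegaSh.IsUniversal d)
    {T : X.Modules} (D : OmegaSh.Der f T) :
    ∃ α : Ω ⟶ T, ∀ (U : X.Opens) (s : Γ(X, U)), α.app U (d.app U s) = D.app U s := by
  obtain ⟨γ, hγ, -⟩ := hd T D
  exact ⟨γ, fun U s => congrArg (fun E : OmegaSh.Der f T => E.app U s) hγ⟩

end Basic

/-- A derivation over `Y` is one over `Z`. -/
noncomputable def derToBase {X Y Z : Scheme.{u}} (f : X ⟶ Y) (g : Y ⟶ Z) {h : X ⟶ Z} (w : f ≫ g = h)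
    {T : X.Modules} (D : OmegaSh.Der f T) : OmegaSh.Der h T where
  d := fun {U} => D.app U.unop
  d_mul := fun {U} a b => D.d_mul (X := U) a b
  d_map := fun {U V} i a => D.d_map i a
  d_app := fun {V} c => by
    subst w
    exact D.d_app (X := op (g ⁻¹ᵁ V.unop)) (g.app V.unop c)

section Composite

variable {X Y Z : Scheme.{u}} (f : X ⟶ Y) (g : Y ⟶ Z) {h : X ⟶ Z} (w : f ≫ g = h)
  {ΩY : Y.Modules} {dY : OmegaSh.Der g ΩY} (hY : OmegaSh.IsUniversal dY)
  {ΩX : X.Modules} {dX : OmegaSh.Der h ΩX} (hX : OmegaSh.IsUniversal dX)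
  {c₁ : (Scheme.Modules.pullback f).obj ΩY ⟶ ΩX} (hc₁ : OmegaSh.IsDiffCompat f dY dX c₁)

include hc₁ in
/-- A derivation over `Z` composed with a map killing `c₁` is one over `Y`. -/
theorem exists_derToTop {T : X.Modules} (π : ΩX ⟶ T) (hπ : c₁ ≫ π = 0) :
    ∃ D : OmegaSh.Der f T, ∀ U s, D.app U s = π.app U (dX.app U s) := by
  let E : OmegaSh.Der h T := dX.postcomp π.val
  refine ⟨{ d := fun {U} => E.app U.unop
            d_mul := fun {U} a b => E.d_mul (X := U) a b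
            d_map := fun {U V} i a => E.d_map i a
            d_app := fun {V} c => ?_ }, fun U s => rfl⟩
  show π.app (f ⁻¹ᵁ V.unop) (dX.app (f ⁻¹ᵁ V.unop) (f.app V.unop c)) = 0
  rw [← hc₁ V.unop c]
  exact congrArg (fun k : (Scheme.Modules.pullback f).obj ΩY ⟶ T =>
    k.app (f ⁻¹ᵁ V.unop) (OmegaSh.pullSect f ΩY V.unop (dY.app V.unop c))) hπ

include hY hc₁ in
theorem comp_zero_of_derivation {T : X.Modules} (π : ΩX ⟶ T) (D : OmegaSh.Der f T)
    (hD : ∀ U s, π.app U (dX.app U s) = D.app U s) : c₁ ≫ π = 0 := by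
  apply ((Scheme.Modules.pullbackPushforwardAdjunction f).homEquiv ΩY T).injective
  refine hom_ext_univ hY fun V c => ?_
  rw [← OmegaLib.pullSect_adjoint, ← OmegaLib.pullSect_adjoint]
  show π.app _ (c₁.app _ _) = 0
  rw [hc₁, hD]
  exact D.d_app (X := op V) c

include hY hX hc₁ w in
/-- The cokernel of `f^* Ω_{Y/Z} → Ω_{X/Z}` carries a universal derivation over `Y`. -/
theorem exists_universal_cokernel :
    ∃ D : OmegaSh.Der f (cokernel c₁),
      (∀ U s, D.app U s = (cokernel.π c₁).app U (dX.app U s)) ∧ OmegaSh.IsUniversal D := by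
  obtain ⟨D, hD⟩ := exists_derToTop (hc₁ := hc₁) (π := cokernel.π c₁) (hπ := cokernel.condition c₁)
  refine ⟨D, hD, fun T E => ?_⟩
  obtain ⟨k, hk⟩ := exists_lift_univ hX (derToBase f g w E)
  refine ⟨cokernel.desc c₁ k (comp_zero_of_derivation (hY := hY) (hc₁ := hc₁) (π := k) (D := E) (hD := hk)),
    PresheafOfModules.Derivation.ext (funext fun U => AddMonoidHom.ext fun s => ?_), fun β hβ => ?_⟩
  · show (cokernel.desc c₁ k _).app U.unop (D.app U.unop s) = E.app U.unop s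
    rw [hD]
    refine Eq.trans ?_ (hk U.unop s)
    exact congrArg (fun m : ΩX ⟶ T => m.app U.unop (dX.app U.unop s)) (cokernel.π_desc c₁ k _)
  · apply (cancel_epi (cokernel.π c₁)).1
    rw [cokernel.π_desc]
    refine hom_ext_univ hX fun U s => ?_
    show β.app U ((cokernel.π c₁).app U (dX.app U s)) = k.app U (dX.app U s)
    rw [← hD, hk]
    exact congrArg (fun E' : OmegaSh.Der f T => E'.app U s) hβ

include hY hX hc₁ w in
theorem exact_comp {ΩXY : X.Modules} {dXY : OmegaSh.Der f ΩXY} (hXY : OmegaSh.IsUniversal dXY)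
    (π : ΩX ⟶ ΩXY) (hπ : ∀ U s, π.app U (dX.app U s) = dXY.app U s) :
    Epi π ∧ imageSubobject c₁ = kernelSubobject π := by
  have hw := comp_zero_of_derivation (hY := hY) (hc₁ := hc₁) (π := π) (D := dXY) (hD := hπ)
  obtain ⟨D, hD, hDu⟩ := exists_universal_cokernel f g w hY hX hc₁
  let a := cokernel.desc c₁ π hw
  obtain ⟨b, hb⟩ := exists_lift_univ hXY D
  have hπa : cokernel.π c₁ ≫ a = π := cokernel.π_desc _ _ _
  have hπb : π ≫ b = cokernel.π c₁ := hom_ext_univ hX fun U s => by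
    show b.app U (π.app U (dX.app U s)) = _
    rw [hπ, hb, hD]
  have hab : a ≫ b = 𝟙 _ := by
    apply (cancel_epi (cokernel.π c₁)).1
    rw [← Category.assoc, hπa, hπb, Category.comp_id]
  have hba : b ≫ a = 𝟙 _ := hom_ext_univ hXY fun U s => by
    show a.app U (b.app U (dXY.app U s)) = dXY.app U s
    rw [hb, hD]
    refine Eq.trans ?_ (hπ U s)
    exact congrArg (fun m : ΩX ⟶ ΩXY => m.app U (dX.app U s)) hπa
  haveI : IsIso a := ⟨b, hab, hba⟩
  refine ⟨hπa ▸ inferInstance, ?_⟩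
  refine (ShortComplex.mk c₁ π hw).exact_iff_image_eq_kernel.mp
    (ShortComplex.exact_of_g_is_cokernel _ ?_)
  exact IsColimit.ofIsoColimit (cokernelIsCokernel c₁)
    (Cofork.ext (asIso a) hπa)

end Composite

theorem exact_differentials {X Y Z : Scheme.{u}} (f : X ⟶ Y) (g : Y ⟶ Z)
    (ΩY : Y.Modules) (dY : OmegaSh.Der g ΩY) (hY : OmegaSh.IsUniversal dY)
    (ΩX : X.Modules) (dX : OmegaSh.Der (f ≫ g) ΩX) (hX : OmegaSh.IsUniversal dX)
    (ΩXY : X.Modules) (dXY : OmegaSh.Der f ΩXY) (hXY : OmegaSh.IsUniversal dXY)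
    (c₁ : (Scheme.Modules.pullback f).obj ΩY ⟶ ΩX) (hc₁ : OmegaSh.IsDiffCompat f dY dX c₁)
    (c₂ : (Scheme.Modules.pullback (𝟙 X)).obj ΩX ⟶ ΩXY) (hc₂ : OmegaSh.IsDiffCompat (𝟙 X) dX dXY c₂) :
    Epi c₂ ∧
      imageSubobject c₁ = kernelSubobject ((Scheme.Modules.pullbackId X).inv.app ΩX ≫ c₂) := by
  obtain ⟨h1, h2⟩ := exact_comp f g rfl hY hX hc₁ hXY
    ((Scheme.Modules.pullbackId X).inv.app ΩX ≫ c₂) fun U s => by
      show c₂.app U (((Scheme.Modules.pullbackId X).inv.app ΩX).app U (dX.app U s)) = _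
      rw [pullbackId_inv_app]
      refine (hc₂ U s).trans ?_
      rfl
  exact ⟨epi_of_epi ((Scheme.Modules.pullbackId X).inv.app ΩX) c₂, h2⟩

theorem isIso_coprod_of_isPullback {X Y S Z : Scheme.{u}} (a : X ⟶ S) (b : Y ⟶ S)
    (p : Z ⟶ X) (q : Z ⟶ Y) (h : Z ⟶ S) (wp : p ≫ a = h) (wq : q ≫ b = h) (hZ : IsPullback p q a b)
    (ΩX : X.Modules) (dX : OmegaSh.Der a ΩX) (hX : OmegaSh.IsUniversal dX)
    (ΩY : Y.Modules) (dY : OmegaSh.Der b ΩY) (hY : OmegaSh.IsUniversal dY)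
    (ΩZ : Z.Modules) (dZ : OmegaSh.Der h ΩZ) (hZu : OmegaSh.IsUniversal dZ)
    (c₁ : (Scheme.Modules.pullback p).obj ΩX ⟶ ΩZ) (hc₁ : OmegaSh.IsDiffCompat p dX dZ c₁)
    (c₂ : (Scheme.Modules.pullback q).obj ΩY ⟶ ΩZ) (hc₂ : OmegaSh.IsDiffCompat q dY dZ c₂) :
    IsIso (coprod.desc c₁ c₂) := by
  obtain ⟨D₁, hD₁, hu₁⟩ := exists_universal_cokernel p a wp hX hZu hc₁
  obtain ⟨D₂, hD₂, hu₂⟩ := exists_universal_cokernel q b wq hY hZu hc₂
  let π₁ := cokernel.π c₁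
  let π₂ := cokernel.π c₂
  haveI : IsIso (c₂ ≫ π₁) := S9386.result b a q p hZ.flip ΩY dY hY _ D₁ hu₁ (c₂ ≫ π₁) fun U s => by
    show π₁.app _ (c₂.app _ _) = _
    rw [hc₂, hD₁]
  haveI : IsIso (c₁ ≫ π₂) := S9386.result a b p q hZ ΩX dX hX _ D₂ hu₂ (c₁ ≫ π₂) fun U s => by
    show π₂.app _ (c₁.app _ _) = _
    rw [hc₁, hD₂]
  let r : ΩZ ⟶ _ := π₂ ≫ inv (c₁ ≫ π₂) ≫ coprod.inl + π₁ ≫ inv (c₂ ≫ π₁) ≫ coprod.inr
  have z1 : c₁ ≫ π₁ = 0 := cokernel.condition c₁
  have z2 : c₂ ≫ π₂ = 0 := cokernel.condition c₂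
  have k1 : c₁ ≫ r = coprod.inl := by
    rw [Preadditive.comp_add, reassoc_of% z1, zero_comp, add_zero, ← Category.assoc c₁,
      IsIso.hom_inv_id_assoc]
  have k2 : c₂ ≫ r = coprod.inr := by
    rw [Preadditive.comp_add, reassoc_of% z2, zero_comp, zero_add, ← Category.assoc c₂,
      IsIso.hom_inv_id_assoc]
  refine ⟨r, coprod.hom_ext ?_ ?_, ?_⟩
  · rw [coprod.inl_desc_assoc, k1, Category.comp_id]
  · rw [coprod.inr_desc_assoc, k2, Category.comp_id]
  · have e1 : c₁ ≫ (𝟙 ΩZ - r ≫ coprod.desc c₁ c₂) = 0 := by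
      rw [Preadditive.comp_sub, Category.comp_id, reassoc_of% k1, coprod.inl_desc, sub_self]
    have e2 : c₂ ≫ (𝟙 ΩZ - r ≫ coprod.desc c₁ c₂) = 0 := by
      rw [Preadditive.comp_sub, Category.comp_id, reassoc_of% k2, coprod.inr_desc, sub_self]
    have e3 : cokernel.desc c₁ _ e1 = 0 := by
      apply (cancel_epi (c₂ ≫ π₁)).1
      rw [Category.assoc, cokernel.π_desc, e2, comp_zero]
    have e4 : π₁ ≫ cokernel.desc c₁ _ e1 = 𝟙 ΩZ - r ≫ coprod.desc c₁ c₂ := cokernel.π_desc _ _ _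
    rw [e3, comp_zero] at e4
    exact (sub_eq_zero.1 e4.symm).symm

end Groth.Agent.Nrm34
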