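import Groth.Agent.Nrm34.Finite
import Groth.Agent.CurveBC.Coh
import Mathlib.RingTheory.Kaehler.Basic

/-!
# Sections of the sheaf of principal parts over affine opens
-/

set_option autoImplicit false
set_option linter.style.haveILetI false

universe u

open CategoryTheory CategoryTheory.Limits AlgebraicGeometry TopologicalSpace Opposite
open scoped TensorProduct

namespace Groth.Agent.Nrm34

section TMap

variable {A A' B B' : Type*} [CommRing A] [CommRing A'] [CommRing B] [CommRing B']
  [Algebra A B] [Algebra A' B'] (e : A →+* A') (g : B →+* B')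
  (h : ∀ a, g (algebraMap A B a) = algebraMap A' B' (e a))

/-- The map `B ⊗_A B → B' ⊗_{A'} B'` induced by a commutative square of rings. -/
noncomputable def tMap : B ⊗[A] B →+* B' ⊗[A'] B' :=
  letI : Algebra A (B' ⊗[A'] B') :=
    (((algebraMap A' (B' ⊗[A'] B')).comp e)).toAlgebra
  (Algebra.TensorProduct.lift
    ({ Algebra.TensorProduct.includeLeftRingHom.comp g with
       commutes' := fun a => by
        show g (algebraMap A B a) ⊗ₜ[A'] (1 : B') = algebraMap A' (B' ⊗[A'] B') (e a)
        rw [h, Algebra.TensorProduct.algebraMap_apply] } : B →ₐ[A] B' ⊗[A'] B')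
    ({ (Algebra.TensorProduct.includeRight (R := A') (A := B') (B := B')).toRingHom.comp g with
       commutes' := fun a => by
        show (1 : B') ⊗ₜ[A'] g (algebraMap A B a) = algebraMap A' (B' ⊗[A'] B') (e a)
        rw [h]
        exact (Algebra.TensorProduct.includeRight (R := A') (A := B') (B := B')).commutes (e a) } :
      B →ₐ[A] B' ⊗[A'] B')
    (fun _ _ => Commute.all _ _)).toRingHom

@[simp] theorem tMap_tmul (b c : B) : tMap e g h (b ⊗ₜ[A] c) = g b ⊗ₜ[A'] g c := by
  letI : Algebra A (B' ⊗[A'] B') :=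
    (((algebraMap A' (B' ⊗[A'] B')).comp e)).toAlgebra
  show (g b ⊗ₜ[A'] (1 : B')) * ((1 : B') ⊗ₜ[A'] g c) = _
  rw [Algebra.TensorProduct.tmul_mul_tmul, mul_one, one_mul]

theorem lmul'_tMap (t : B ⊗[A] B) :
    Algebra.TensorProduct.lmul' A' (tMap e g h t) = g (Algebra.TensorProduct.lmul' A t) := by
  induction t with
  | zero => simp
  | tmul b c => simp
  | add a b ha hb => simp [ha, hb]

end TMap

/-- The ring isomorphism `B ⊗_A B ≅ B' ⊗_{A'} B'` induced by isomorphisms of rings. -/
theorem exists_tensorEquiv {A A' B B' : Type*} [CommRing A] [CommRing A'] [CommRing B] [CommRing B']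
    [Algebra A B] [Algebra A' B'] (e : A ≃+* A') (g : B ≃+* B')
    (h : ∀ a, g (algebraMap A B a) = algebraMap A' B' (e a)) (n : ℕ) :
    ∃ F : B ⊗[A] B ≃+* B' ⊗[A'] B', (∀ b c, F (b ⊗ₜ c) = g b ⊗ₜ g c) ∧
      ∀ t, F t ∈ KaehlerDifferential.ideal A' B' ^ n ↔ t ∈ KaehlerDifferential.ideal A B ^ n := by
  have h' : ∀ a, g.symm (algebraMap A' B' a) = algebraMap A B (e.symm a) := fun a => by
    rw [g.symm_apply_eq, h, e.apply_symm_apply]
  have k : ∀ a, (g : B →+* B') (algebraMap A B a) = algebraMap A' B' ((e : A →+* A') a) := h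
  have k' : ∀ a, (g.symm : B' →+* B) (algebraMap A' B' a) =
      algebraMap A B ((e.symm : A' →+* A) a) := h'
  let F₁ := tMap (e : A →+* A') (g : B →+* B') k
  let F₂ := tMap (e.symm : A' →+* A) (g.symm : B' →+* B) k'
  let F : B ⊗[A] B ≃+* B' ⊗[A'] B' := RingEquiv.ofRingHom F₁ F₂
    (RingHom.ext fun t => by
      induction t with
      | zero => simp
      | tmul b c =>
        rw [RingHom.comp_apply, RingHom.id_apply]
        simp only [F₁, F₂]
        rw [tMap_tmul, tMap_tmul]
        simp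
      | add a b ha hb => simp only [map_add, ha, hb])
    (RingHom.ext fun t => by
      induction t with
      | zero => simp
      | tmul b c =>
        rw [RingHom.comp_apply, RingHom.id_apply]
        simp only [F₁, F₂]
        rw [tMap_tmul, tMap_tmul]
        simp
      | add a b ha hb => simp only [map_add, ha, hb])
  refine ⟨F, tMap_tmul _ _ k, fun t => ?_⟩
  have hI : (KaehlerDifferential.ideal A B).map F = KaehlerDifferential.ideal A' B' := by
    ext s
    rw [Ideal.mem_map_of_equiv]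
    obtain ⟨t, rfl⟩ := F.surjective s
    simp only [EmbeddingLike.apply_eq_iff_eq, exists_eq_right, KaehlerDifferential.ideal,
      RingHom.mem_ker]
    show _ ↔ Algebra.TensorProduct.lmul' A' (F₁ t) = 0
    rw [show F₁ = tMap _ _ k from rfl, lmul'_tMap]
    exact (map_eq_zero_iff _ g.injective).symm
  rw [← hI, ← Ideal.map_pow, Ideal.mem_map_of_equiv]
  simp

set_option backward.isDefEq.respectTransparency false in
set_option backward.isDefEq.respectTransparency.types false in
theorem unitIso_pullSect {X Y : Scheme.{u}} (g : Y ⟶ X) (U : X.Opens) (b : Γ(X, U)) :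
    (CurveBC.unitIso g).hom.app (g ⁻¹ᵁ U)
      (OmegaSh.pullSect g (Coh.structureModule X) U (OmegaSh.strSect X U b)) = g.app U b := by
  let φ := g.toRingCatSheafHom
  have h : (Scheme.Modules.pullbackPushforwardAdjunction g).unit.app (Coh.structureModule X) ≫
      (Scheme.Modules.pushforward g).map (CurveBC.unitIso g).hom =
        SheafOfModules.unitToPushforwardObjUnit φ :=
    (Adjunction.homEquiv_unit (Scheme.Modules.pullbackPushforwardAdjunction g) _ _ _).symm.trans
      (SheafOfModules.pullbackPushforwardAdjunction_homEquiv_pullbackObjUnitToUnit φ)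
  exact congrArg (fun k => Scheme.Modules.Hom.app k U (OmegaSh.strSect X U b)) h

variable {X S : Scheme.{u}} (f : X ⟶ S) (n : ℕ)

/-- Sections of `P^n` over `U` as functions on `pr₁⁻¹ U`. -/
noncomputable def sectToFun (U : X.Opens) :
    Γ(PrinPart.P f n, U) →+ Γ(PrinPart.nbhd f n, PrinPart.pr1 f n ⁻¹ᵁ U) :=
  ((CurveBC.unitIso (PrinPart.pr2 f n)).hom.app (PrinPart.pr1 f n ⁻¹ᵁ U)).hom

theorem sectToFun_bijective (U : X.Opens) : Function.Bijective (sectToFun f n U) :=
  ConcreteCategory.bijective_of_isIso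
    ((CurveBC.unitIso (PrinPart.pr2 f n)).hom.app (PrinPart.pr1 f n ⁻¹ᵁ U))

theorem sectToFun_smul (U : X.Opens) (a : Γ(X, U)) (σ : Γ(PrinPart.P f n, U)) :
    sectToFun f n U (a • σ) = (PrinPart.pr1 f n).app U a * sectToFun f n U σ :=
  ((CurveBC.unitIso (PrinPart.pr2 f n)).hom.app_smul ((PrinPart.pr1 f n).app U a) σ)

theorem sectToFun_dn (U : X.Opens) (b : Γ(X, U)) :
    sectToFun f n U (PrinPart.dn f n U b) =
      (PrinPart.pr2 f n).appLE U (PrinPart.pr1 f n ⁻¹ᵁ U) (PrinPart.preimage_pr1 f n U).le b := by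
  have h := Nrm6.hom_app_res (CurveBC.unitIso (PrinPart.pr2 f n)).hom
    (homOfLE (PrinPart.preimage_pr1 f n U).le)
    (OmegaSh.pullSect (PrinPart.pr2 f n) (Coh.structureModule X) U (OmegaSh.strSect X U b))
  rw [unitIso_pullSect] at h
  exact h

theorem globalSections_affine (A B : Type u) [CommRing A] [CommRing B] [Algebra A B] (n : ℕ)
    (ψ : TensorProduct A B B →+
      Γ(PrinPart.P (Spec.map (CommRingCat.ofHom (algebraMap A B))) n, (⊤ : (Spec (CommRingCat.of B)).Opens)))
    (hψ : ∀ b b' : B, ψ (b ⊗ₜ[A] b') =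
      (Scheme.ΓSpecIso (CommRingCat.of B)).inv b •
        PrinPart.dn (Spec.map (CommRingCat.ofHom (algebraMap A B))) n ⊤
          ((Scheme.ΓSpecIso (CommRingCat.of B)).inv b')) :
    Function.Surjective ψ ∧ ψ.ker = (KaehlerDifferential.ideal A B ^ (n + 1)).toAddSubgroup := by
  let φ := CommRingCat.ofHom (algebraMap A B)
  let f := Spec.map φ
  let V : (Spec (CommRingCat.of A)).affineOpens := ⟨⊤, isAffineOpen_top _⟩
  let U : (Spec (CommRingCat.of B)).affineOpens := ⟨⊤, isAffineOpen_top _⟩
  letI := (f.appLE V.1 U.1 le_top).hom.toAlgebra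
  obtain ⟨-, χ, hsurj, hker, hl, hr⟩ := PPSheaf.exists_chart f V U le_top n rfl
  let eA := (Scheme.ΓSpecIso (CommRingCat.of A)).symm.commRingCatIsoToRingEquiv
  let eB := (Scheme.ΓSpecIso (CommRingCat.of B)).symm.commRingCatIsoToRingEquiv
  obtain ⟨F, hF, hFI⟩ := exists_tensorEquiv (A' := Γ(Spec (CommRingCat.of A), V.1))
    (B' := Γ(Spec (CommRingCat.of B), U.1)) eA eB (fun a => by
      show (Scheme.ΓSpecIso (CommRingCat.of B)).inv (φ a) =
        f.appLE ⊤ ⊤ le_top ((Scheme.ΓSpecIso (CommRingCat.of A)).inv a)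
      rw [← ConcreteCategory.comp_apply, Scheme.ΓSpecIso_inv_naturality]
      simp only [f, Scheme.Hom.appLE, op_id, CategoryTheory.Functor.map_id, Category.comp_id]
      rfl) (n + 1)
  have key : ∀ t, sectToFun f n ⊤ (ψ t) = χ (F t) := by
    intro t
    induction t with
    | zero => simp only [map_zero]
    | tmul b c =>
      rw [hψ, sectToFun_smul, sectToFun_dn, hF,
        show eB b ⊗ₜ[Γ(Spec (CommRingCat.of A), V.1)] eB c = (eB b ⊗ₜ 1) * (1 ⊗ₜ eB c) by simp,
        map_mul, hl, hr]
      rfl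
    | add a b ha hb => simp only [map_add, ha, hb]
  refine ⟨fun σ => ?_, ?_⟩
  · obtain ⟨t, ht⟩ := hsurj (sectToFun f n ⊤ σ)
    obtain ⟨t, rfl⟩ := F.surjective t
    exact ⟨t, (sectToFun_bijective f n ⊤).1 ((key t).trans ht)⟩
  · ext t
    rw [AddMonoidHom.mem_ker, Submodule.mem_toAddSubgroup, ← hFI, ← hker, RingHom.mem_ker, ← key,
      map_eq_zero_iff _ (sectToFun_bijective f n ⊤).1]

end Groth.Agent.Nrm34
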