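import Groth.Agent.Nrm34.Univ

/-!
# Composites of differential operators, the maps `δ`, operators of order one
-/

set_option autoImplicit false
set_option linter.style.haveILetI false

universe u

open CategoryTheory CategoryTheory.Limits AlgebraicGeometry TopologicalSpace Opposite

namespace Groth.Agent.Nrm34

variable {X S : Scheme.{u}} (f : X ⟶ S)

theorem isDiffOpLE_iff (n : ℕ) {F G : X.Modules} {D : F.presheaf ⟶ G.presheaf} (hD : SLinear f D) :
    PrinPart.IsDiffOpLE f F G n D ↔ AltZero D n :=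
  ⟨fun h => AltZero.of_isDiffOpLE h, fun h => isDiffOpLE_of_altZero hD h⟩

theorem isDiffOpLE_comp {F G H : X.Modules} {n n' : ℕ} {D : F.presheaf ⟶ G.presheaf}
    {D' : G.presheaf ⟶ H.presheaf} (hD : PrinPart.IsDiffOpLE f F G n D)
    (hD' : PrinPart.IsDiffOpLE f G H n' D') : PrinPart.IsDiffOpLE f F H (n + n') (D ≫ D') := by
  have h1 : SLinear f D := SLinear.of_isDiffOpLE hD
  have h2 : SLinear f D' := SLinear.of_isDiffOpLE hD'
  have a1 : AltZero D n := AltZero.of_isDiffOpLE hD
  have a2 : AltZero D' n' := AltZero.of_isDiffOpLE hD'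
  have h3 : SLinear f (D ≫ D') := h1.comp h2
  have a3 : AltZero (D ≫ D') (n + n') := @AltZero.comp X S f F G H D D' h1 h2 n n' a1 a2
  exact @isDiffOpLE_of_altZero X S f (n + n') F H (D ≫ D') h3 a3

theorem isDiffOpLE_dPHom (n : ℕ) (F : X.Modules) :
    PrinPart.IsDiffOpLE f F (PrinPart.PMod f n F) n (PrinPart.dPHom f n F) :=
  ⟨𝟙 _, fun _ _ => rfl⟩

theorem existsUnique_delta (n n' : ℕ) :
    ∃! δ : PrinPart.P f (n + n') ⟶ PrinPart.PMod f n' (PrinPart.P f n),
      ∀ (U : X.Opens) (t : Γ(X, U)),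
        δ.app U (PrinPart.dn f (n + n') U t) =
          PrinPart.dP f n' (PrinPart.P f n) U (PrinPart.dn f n U t) := by
  obtain ⟨u, hu⟩ := isDiffOpLE_comp f (isDiffOpLE_dPHom f n (Coh.structureModule X))
    (isDiffOpLE_dPHom f n' (PrinPart.P f n))
  refine ⟨u, fun U t => (hu U (OmegaSh.strSect X U t)).symm, fun δ hδ => ?_⟩
  refine PPSheaf.hom_ext_dP f _ _ _ fun U t => ?_
  exact (hδ U t).trans (hu U (OmegaSh.strSect X U t))

section Scal

variable {G : X.Modules} (g : Γ(G, ⊤))

/-- `a ↦ a • g` on sections. -/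
noncomputable def scalFun (U : X.Opens) : Γ(X, U) →+ Γ(G, U) where
  toFun a := a • G.presheaf.map (homOfLE le_top).op g
  map_zero' := zero_smul _ _
  map_add' _ _ := add_smul _ _ _

theorem scalFun_res {U V : X.Opens} (h : V ≤ U) (a : Γ(X, U)) :
    scalFun g V (X.presheaf.map (homOfLE h).op a) =
      G.presheaf.map (homOfLE h).op (scalFun g U a) := by
  show X.presheaf.map (homOfLE h).op a • G.presheaf.map (homOfLE le_top).op g =
    G.presheaf.map (homOfLE h).op (a • G.presheaf.map (homOfLE le_top).op g)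
  rw [Scheme.Modules.map_smul, OmegaSh.resM_resM]
  rfl

theorem scalFun_mul (U : X.Opens) (c a : Γ(X, U)) : scalFun g U (c * a) = c • scalFun g U a :=
  mul_smul c a _

/-- `a ↦ a • g`. -/
noncomputable def scalHom : Coh.structureModule X ⟶ G :=
  ⟨PresheafOfModules.homMk
    { app := fun U => AddCommGrpCat.ofHom ((scalFun g U.unop).comp (OmegaSh.fnSect X U.unop))
      naturality := fun U V i => by
        ext a
        exact scalFun_res g i.unop.le (OmegaSh.fnSect X U.unop a) }
    fun U c a => scalFun_mul g U.unop c (OmegaSh.fnSect X U.unop a)⟩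

theorem scalHom_app (U : X.Opens) (a : Γ(X, U)) :
    (scalHom g).app U (OmegaSh.strSect X U a) = scalFun g U a := rfl

theorem linear_eq_scalFun (v : Coh.structureModule X ⟶ G) (U : X.Opens) (a : Γ(X, U)) :
    v.app U (OmegaSh.strSect X U a) = scalFun (v.app ⊤ (OmegaSh.strSect X ⊤ 1)) U a := by
  show _ = a • G.presheaf.map (homOfLE le_top).op (v.app ⊤ (OmegaSh.strSect X ⊤ 1))
  rw [← Nrm6.hom_app_res, ← v.app_smul]
  congr 1
  exact (mul_one a).symm.trans
    (congrArg (a * ·) (map_one (X.presheaf.map (homOfLE (le_top : U ≤ ⊤)).op).hom).symm)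

end Scal

theorem sect_map_mul {U V : X.Opens} (h : V ≤ U) {G : X.Modules} (a : Γ(X, U)) (s : Γ(G, U)) :
    X.presheaf.map (homOfLE h).op a • G.presheaf.map (homOfLE h).op s =
      G.presheaf.map (homOfLE h).op (a • s) := (Scheme.Modules.map_smul _ _ _ _).symm

theorem existsUnique_add_derivation (G : X.Modules)
    (D : (Coh.structureModule X).presheaf ⟶ G.presheaf)
    (hD : PrinPart.IsDiffOpLE f (Coh.structureModule X) G 1 D) :
    ∃! p : (Coh.structureModule X ⟶ G) × OmegaSh.Der f G,
      ∀ (U : X.Opens) (a : Γ(X, U)),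
        D.app (op U) (OmegaSh.strSect X U a) = p.1.app U (OmegaSh.strSect X U a) + p.2.app U a := by
  have hS := SLinear.of_isDiffOpLE hD
  have hA := AltZero.of_isDiffOpLE hD
  let g := D.app (op ⊤) (OmegaSh.strSect X ⊤ 1)
  let E : ∀ U : X.Opens, Γ(X, U) →+ Γ(G, U) := fun U =>
    (D.app (op U)).hom.comp (OmegaSh.strSect X U)
  have hE : ∀ U a, E U a = D.app (op U) (OmegaSh.strSect X U a) := fun _ _ => rfl
  have h1 : ∀ U : X.Opens, G.presheaf.map (homOfLE le_top).op g = E U 1 := fun U => by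
    rw [hE, ← D_res]
    congr 1
    exact map_one (X.presheaf.map (homOfLE (le_top : U ≤ ⊤)).op).hom
  have hprod : ∀ (U : X.Opens) (a b : Γ(X, U)),
      E U (a * b) - a • E U b - b • E U a + (a * b) • E U 1 = 0 := by
    intro U a b
    have h := hA U ![a, b] (OmegaSh.strSect X U 1)
    rw [altD] at h
    rw [show (Finset.univ : Finset (Finset (Fin 2))) = {∅, {0}, {1}, {0, 1}} by decide] at h
    simp only [Finset.sum_insert (show (∅ : Finset (Fin 2)) ∉ ({{0}, {1}, {0, 1}} : Finset _) by decide),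
      Finset.sum_insert (show ({0} : Finset (Fin 2)) ∉ ({{1}, {0, 1}} : Finset _) by decide),
      Finset.sum_insert (show ({1} : Finset (Fin 2)) ∉ ({{0, 1}} : Finset _) by decide),
      Finset.sum_singleton,
      show (∅ : Finset (Fin 2))ᶜ = {0, 1} by decide, show ({0} : Finset (Fin 2))ᶜ = {1} by decide,
      show ({1} : Finset (Fin 2))ᶜ = {0} by decide, show ({0, 1} : Finset (Fin 2))ᶜ = ∅ by decide,
      Finset.prod_empty, Finset.prod_singleton,
      Finset.prod_pair (show (0 : Fin 2) ≠ 1 by decide), Finset.card_empty, Finset.card_singleton,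
      show ({0, 1} : Finset (Fin 2)).card = 2 by decide, Matrix.cons_val_zero, Matrix.cons_val_one,
      pow_zero, pow_one, neg_smul, one_smul, even_two.neg_one_pow] at h
    rw [← h]
    show E U (a * b) - a • E U b - b • E U a + (a * b) • E U 1 =
      E U ((a * b) * 1) + (-(a • E U (b * 1)) + (-(b • E U (a * 1)) + (a * b) • E U 1))
    simp only [mul_one]
    abel
  let d : ∀ U : X.Opens, Γ(X, U) →+ Γ(G, U) := fun U => E U - scalFun g U
  have hd : ∀ (U : X.Opens) (a : Γ(X, U)), d U a = E U a - a • E U 1 := fun U a => by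
    show E U a - a • G.presheaf.map (homOfLE le_top).op g = _
    rw [h1]
  have dmul : ∀ (U : X.Opens) (a b : Γ(X, U)), d U (a * b) = a • d U b + b • d U a := by
    intro U a b
    have h := hprod U a b
    rw [hd, hd, hd, smul_sub, smul_sub, smul_smul, smul_smul, mul_comm b a, ← sub_eq_zero, ← h]
    abel
  have dmap : ∀ (U V : X.Opens) (i : V ≤ U) (a : Γ(X, U)),
      d V (X.presheaf.map (homOfLE i).op a) = G.presheaf.map (homOfLE i).op (d U a) := by
    intro U V i a
    show E V _ - scalFun g V _ = G.presheaf.map (homOfLE i).op (E U a - scalFun g U a)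
    rw [map_sub, scalFun_res]
    congr 1
    exact D_res D i (OmegaSh.strSect X U a)
  have dapp : ∀ (V : S.Opens) (c : Γ(S, V)), d (f ⁻¹ᵁ V) (f.app V c) = 0 := by
    intro V c
    have h := hS V c (f ⁻¹ᵁ V) le_rfl (OmegaSh.strSect X _ 1)
    have hid : X.presheaf.map (homOfLE (le_refl (f ⁻¹ᵁ V))).op (f.app V c) = f.app V c :=
      congr($(X.presheaf.map_id _) _)
    rw [hid] at h
    rw [hd, sub_eq_zero, hE, hE]
    refine Eq.trans ?_ h
    congr 1
    exact (mul_one (f.app V c)).symm
  let der : OmegaSh.Der f G :=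
    { d := fun {U} => d U.unop
      d_mul := fun {U} a b => dmul U.unop a b
      d_map := fun {U V} i a => dmap U.unop V.unop i.unop.le a
      d_app := fun {V} c => dapp V.unop c }
  refine ⟨(scalHom g, der), fun U a => ?_, ?_⟩
  · show E U a = scalFun g U a + (E U a - scalFun g U a)
    abel
  rintro ⟨v, e⟩ hp
  have he : ∀ U : X.Opens, e.app U 1 = 0 := fun U => by
    have h : e.app U ((1 : Γ(X, U)) * 1) = (1 : Γ(X, U)) • e.app U 1 + (1 : Γ(X, U)) • e.app U 1 :=
      e.d_mul (X := op U) (1 : Γ(X, U)) 1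
    rw [mul_one, one_smul] at h
    exact left_eq_add.mp h
  have hv : ∀ (U : X.Opens) (a : Γ(X, U)), v.app U (OmegaSh.strSect X U a) = scalFun g U a := fun U a => by
    rw [linear_eq_scalFun]
    congr 2
    have h := hp ⊤ 1
    rw [he, add_zero] at h
    exact h.symm
  refine Prod.ext ?_ (PresheafOfModules.Derivation.ext ?_)
  · refine Scheme.Modules.hom_ext _ _ fun U => ?_
    ext a
    exact hv U a
  funext U
  refine AddMonoidHom.ext fun a => ?_
  show e.app U.unop a = E U.unop a - scalFun g U.unop a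
  rw [hE U.unop a, hp U.unop a]
  erw [hv]
  abel

end Groth.Agent.Nrm34
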