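import Groth.Agent.Nrm34.Diff
import Groth.Agent.Nrm34.OpApps
import Groth.Agent.OmegaUniv.Universal

/-!
# `P^1 = O ⊕ Ω`
-/

set_option autoImplicit false
set_option linter.style.haveILetI false

universe u

open CategoryTheory CategoryTheory.Limits AlgebraicGeometry TopologicalSpace Opposite

namespace Groth.Agent.Nrm34

variable {X S : Scheme.{u}} (f : X ⟶ S)

theorem altZero_one_of {F G : X.Modules} {D : F.presheaf ⟶ G.presheaf}
    (h : ∀ (U : X.Opens) (a b : Γ(X, U)) (t : Γ(F, U)),
      D.app (op U) ((a * b) • t) - a • D.app (op U) (b • t) - b • D.app (op U) (a • t) +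
        (a * b) • D.app (op U) t = 0) : AltZero D 1 := by
  intro U a t
  rw [altD, show (Finset.univ : Finset (Finset (Fin 2))) = {∅, {0}, {1}, {0, 1}} by decide]
  simp only [Finset.sum_insert (show (∅ : Finset (Fin 2)) ∉ ({{0}, {1}, {0, 1}} : Finset _) by decide),
    Finset.sum_insert (show ({0} : Finset (Fin 2)) ∉ ({{1}, {0, 1}} : Finset _) by decide),
    Finset.sum_insert (show ({1} : Finset (Fin 2)) ∉ ({{0, 1}} : Finset _) by decide),
    Finset.sum_singleton,
    show (∅ : Finset (Fin 2))ᶜ = {0, 1} by decide, show ({0} : Finset (Fin 2))ᶜ = {1} by decide,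
    show ({1} : Finset (Fin 2))ᶜ = {0} by decide, show ({0, 1} : Finset (Fin 2))ᶜ = ∅ by decide,
    Finset.prod_empty, Finset.prod_singleton,
    Finset.prod_pair (show (0 : Fin 2) ≠ 1 by decide), Finset.card_empty, Finset.card_singleton,
    show ({0, 1} : Finset (Fin 2)).card = 2 by decide,
    pow_zero, pow_one, neg_smul, one_smul, even_two.neg_one_pow]
  refine Eq.trans ?_ (h U (a 0) (a 1) t)
  abel

theorem hom_ext_structure {G : X.Modules} {a b : Coh.structureModule X ⟶ G}
    (h : ∀ (U : X.Opens) (s : Γ(X, U)),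
      a.app U (OmegaSh.strSect X U s) = b.app U (OmegaSh.strSect X U s)) : a = b := by
  refine Scheme.Modules.hom_ext _ _ fun U => ?_
  ext s
  exact h U (OmegaSh.fnSect X U s)

theorem strSect_eq_smul_one (U : X.Opens) (s : Γ(X, U)) :
    OmegaSh.strSect X U s = s • OmegaSh.strSect X U 1 := (mul_one s).symm

variable [QuasiSeparated f]

/-- `s ↦ (s, d s)`. -/
noncomputable def oneDFun (U : X.Opens) :
    Γ(Coh.structureModule X, U) →+ Γ(Coh.structureModule X ⨿ Omega.sheaf f, U) :=
  ((coprod.inl : Coh.structureModule X ⟶ Coh.structureModule X ⨿ Omega.sheaf f).app U).hom +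
    (((coprod.inr : Omega.sheaf f ⟶ Coh.structureModule X ⨿ Omega.sheaf f).app U).hom.comp
      ((OmegaSh.dOmega f).app U)).comp (OmegaSh.fnSect X U)

theorem oneDFun_apply (U : X.Opens) (s : Γ(X, U)) :
    oneDFun f U (OmegaSh.strSect X U s) =
      (coprod.inl : Coh.structureModule X ⟶ Coh.structureModule X ⨿ Omega.sheaf f).app U
          (OmegaSh.strSect X U s) +
        (coprod.inr : Omega.sheaf f ⟶ Coh.structureModule X ⨿ Omega.sheaf f).app U
          ((OmegaSh.dOmega f).app U s) := rfl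

/-- `s ↦ (s, d s)`, as a map of sheaves of abelian groups. -/
noncomputable def oneDHom :
    (Coh.structureModule X).presheaf ⟶ (Coh.structureModule X ⨿ Omega.sheaf f).presheaf where
  app U := AddCommGrpCat.ofHom (oneDFun f U.unop)
  naturality U V i := by
    ext s
    show oneDFun f V.unop (OmegaSh.strSect X V.unop
        (X.presheaf.map (homOfLE i.unop.le).op (OmegaSh.fnSect X U.unop s))) =
      (Coh.structureModule X ⨿ Omega.sheaf f).presheaf.map (homOfLE i.unop.le).op
        (oneDFun f U.unop (OmegaSh.strSect X U.unop (OmegaSh.fnSect X U.unop s)))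
    have hd : (OmegaSh.dOmega f).app V.unop
        (X.presheaf.map (homOfLE i.unop.le).op (OmegaSh.fnSect X U.unop s)) =
        (Omega.sheaf f).presheaf.map (homOfLE i.unop.le).op
          ((OmegaSh.dOmega f).app U.unop (OmegaSh.fnSect X U.unop s)) :=
      (OmegaSh.dOmega f).d_map i (OmegaSh.fnSect X U.unop s)
    rw [oneDFun_apply, oneDFun_apply, hd, map_add, ← Nrm6.hom_app_res, ← Nrm6.hom_app_res]
    rfl

theorem oneDHom_app (U : X.Opens) (s : Γ(X, U)) :
    (oneDHom f).app (op U) (OmegaSh.strSect X U s) = oneDFun f U (OmegaSh.strSect X U s) := rfl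

theorem isDiffOpLE_oneDHom :
    PrinPart.IsDiffOpLE f (Coh.structureModule X) _ 1 (oneDHom f) := by
  refine isDiffOpLE_of_altZero (fun V s U hU t => ?_) (altZero_one_of fun U a b t => ?_)
  · obtain ⟨r, rfl⟩ : ∃ r, OmegaSh.strSect X U r = t := ⟨OmegaSh.fnSect X U t, rfl⟩
    have h0 : (OmegaSh.dOmega f).app U (X.presheaf.map (homOfLE hU).op (f.app V s)) = 0 := by
      have h1 : (OmegaSh.dOmega f).app (f ⁻¹ᵁ V) (f.app V s) = 0 :=
        (OmegaSh.dOmega f).d_app (X := op V) s
      have h2 : (OmegaSh.dOmega f).app U (X.presheaf.map (homOfLE hU).op (f.app V s)) =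
          (Omega.sheaf f).presheaf.map (homOfLE hU).op
            ((OmegaSh.dOmega f).app (f ⁻¹ᵁ V) (f.app V s)) :=
        (OmegaSh.dOmega f).d_map (homOfLE hU).op (f.app V s)
      rw [h2, h1, map_zero]
    generalize X.presheaf.map (homOfLE hU).op (f.app V s) = c at h0 ⊢
    show (oneDHom f).app (op U) (OmegaSh.strSect X U (c * r)) =
      c • (oneDHom f).app (op U) (OmegaSh.strSect X U r)
    have hm : (OmegaSh.dOmega f).app U (c * r) =
        c • (OmegaSh.dOmega f).app U r + r • (OmegaSh.dOmega f).app U c :=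
      (OmegaSh.dOmega f).d_mul (X := op U) c r
    have hl : OmegaSh.strSect X U (c * r) = c • OmegaSh.strSect X U r := rfl
    rw [oneDHom_app, oneDHom_app, oneDFun_apply, oneDFun_apply, hm, h0, smul_zero, add_zero, hl,
      Scheme.Modules.Hom.app_smul, Scheme.Modules.Hom.app_smul, smul_add]
  · obtain ⟨r, rfl⟩ : ∃ r, OmegaSh.strSect X U r = t := ⟨OmegaSh.fnSect X U t, rfl⟩
    have hl : ∀ c x : Γ(X, U), c • OmegaSh.strSect X U x = OmegaSh.strSect X U (c * x) :=
      fun c x => rfl
    have hm : ∀ x y : Γ(X, U), (OmegaSh.dOmega f).app U (x * y) =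
        x • (OmegaSh.dOmega f).app U y + y • (OmegaSh.dOmega f).app U x :=
      fun x y => (OmegaSh.dOmega f).d_mul (X := op U) x y
    simp only [hl, oneDHom_app, oneDFun_apply, hm, smul_add, ← Scheme.Modules.Hom.app_smul]
    simp only [← hl, mul_smul, map_add, Scheme.Modules.Hom.app_smul]
    module

theorem isIso_coprod_structure_differentials
    (e : Coh.structureModule X ⟶ PrinPart.P f 1)
    (he : ∀ (U : X.Opens) (s : Γ(X, U)), e.app U (OmegaSh.strSect X U s) = s • PrinPart.dn f 1 U 1)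
    (ι : Omega.sheaf f ⟶ PrinPart.P f 1)
    (hι : ∀ (U : X.Opens) (s : Γ(X, U)),
      ι.app U ((OmegaSh.dOmega f).app U s) = PrinPart.dn f 1 U s - s • PrinPart.dn f 1 U 1) :
    IsIso (coprod.desc e ι) := by
  obtain ⟨u, hu⟩ := isDiffOpLE_oneDHom f
  have hu' : ∀ (U : X.Opens) (s : Γ(X, U)), u.app U (PrinPart.dn f 1 U s) =
      (coprod.inl : Coh.structureModule X ⟶ Coh.structureModule X ⨿ Omega.sheaf f).app U
          (OmegaSh.strSect X U s) +
        (coprod.inr : Omega.sheaf f ⟶ Coh.structureModule X ⨿ Omega.sheaf f).app U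
          ((OmegaSh.dOmega f).app U s) :=
    fun U s => (hu U (OmegaSh.strSect X U s)).symm
  have hd1 : ∀ U : X.Opens, (OmegaSh.dOmega f).app U 1 = 0 := fun U => by
    have h : (OmegaSh.dOmega f).app U ((1 : Γ(X, U)) * 1) =
        (1 : Γ(X, U)) • (OmegaSh.dOmega f).app U 1 + (1 : Γ(X, U)) • (OmegaSh.dOmega f).app U 1 :=
      (OmegaSh.dOmega f).d_mul (X := op U) (1 : Γ(X, U)) 1
    rw [mul_one, one_smul] at h
    exact left_eq_add.mp h
  refine ⟨u, coprod.hom_ext ?_ ?_, ?_⟩
  · rw [coprod.inl_desc_assoc, Category.comp_id]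
    refine hom_ext_structure fun U s => ?_
    show u.app U (e.app U (OmegaSh.strSect X U s)) = _
    rw [he, u.app_smul, hu', hd1, map_zero, add_zero, ← Scheme.Modules.Hom.app_smul,
      ← strSect_eq_smul_one]
  · rw [coprod.inr_desc_assoc, Category.comp_id]
    refine hom_ext_univ (OmegaUniv.isUniversal_dOmega f) fun U s => ?_
    show u.app U (ι.app U ((OmegaSh.dOmega f).app U s)) = _
    rw [hι, map_sub, u.app_smul, hu', hu', hd1, map_zero, add_zero,
      ← Scheme.Modules.Hom.app_smul, ← strSect_eq_smul_one]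
    abel
  · refine PPSheaf.hom_ext_dP f 1 _ _ fun U t => ?_
    obtain ⟨r, rfl⟩ : ∃ r, OmegaSh.strSect X U r = t := ⟨OmegaSh.fnSect X U t, rfl⟩
    show (coprod.desc e ι).app U (u.app U (PrinPart.dn f 1 U r)) = PrinPart.dn f 1 U r
    rw [hu', map_add]
    have a1 : ∀ x, (coprod.desc e ι).app U
        ((coprod.inl : Coh.structureModule X ⟶ _).app U x) = e.app U x := fun x =>
      congrArg (fun k => Scheme.Modules.Hom.app k U x) (coprod.inl_desc e ι)
    have a2 : ∀ x, (coprod.desc e ι).app U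
        ((coprod.inr : Omega.sheaf f ⟶ _).app U x) = ι.app U x := fun x =>
      congrArg (fun k => Scheme.Modules.Hom.app k U x) (coprod.inr_desc e ι)
    rw [a1, a2, he, hι]
    abel

end Groth.Agent.Nrm34
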