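import Groth.Prelude.Def_OmegaPn
import Groth.Agent.FComplLib.IdealComap
import Groth.Agent.RelPC13.Push
import Groth.Agent.MorLib.Thick.Mor
import Mathlib.AlgebraicGeometry.Morphisms.Finite

/-!
# Infinitesimal neighbourhoods: symmetry, base change, pushforwards along the first projection
-/

set_option autoImplicit false
set_option linter.style.haveILetI false

universe u

open CategoryTheory CategoryTheory.Limits AlgebraicGeometry TopologicalSpace Opposite

namespace Groth.Agent.Nrm34

section IdealPow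

variable {X X' : Scheme.{u}}

/-- The closed subscheme of `I.comap v` is the base change of that of `I`. -/
theorem isPullback_subscheme (v : X' ⟶ X) (I : X.IdealSheafData) (J : X'.IdealSheafData)
    (e : J = I.comap v) (w : J.subscheme ⟶ I.subscheme)
    (hw : w ≫ I.subschemeι = J.subschemeι ≫ v) :
    IsPullback w J.subschemeι I.subschemeι v := by
  subst e
  refine ((IsPullback.of_hasPullback v I.subschemeι).flip).of_iso (I.comapIso v).symm
    (Iso.refl _) (Iso.refl _) (Iso.refl _) ?_ ?_ (by simp) (by simp)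
  · rw [← cancel_mono I.subschemeι]
    simp [hw, ← pullback.condition]
  · simp

theorem isPullback_infNbhd {Y Y' : Scheme.{u}} (f : Y ⟶ X) [IsClosedImmersion f] (v : X' ⟶ X)
    (u : Y' ⟶ Y) (f' : Y' ⟶ X') (hsq : IsPullback u f' f v) (n : ℕ)
    (w : PrinPart.infNbhd f' n ⟶ PrinPart.infNbhd f n)
    (hw : w ≫ PrinPart.infNbhdι f n = PrinPart.infNbhdι f' n ≫ v) :
    IsPullback w (PrinPart.infNbhdι f' n) (PrinPart.infNbhdι f n) v :=
  isPullback_subscheme v _ _
    (by rw [FComplLib.comap_pow, FComplLib.ker_of_isPullback hsq.flip]) w hw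

end IdealPow

section Diag

variable {X S : Scheme.{u}} (f : X ⟶ S) (n : ℕ)

theorem diagonal_symmetry :
    pullback.diagonal f ≫ (pullbackSymmetry f f).hom = pullback.diagonal f := by
  apply pullback.hom_ext <;> simp

theorem symmetry_preimage :
    (pullbackSymmetry f f).hom ⁻¹ᵁ (pullback.diagonal f).coborderRange =
      (pullback.diagonal f).coborderRange := by
  ext1
  change (pullbackSymmetry f f).hom ⁻¹' coborder (Set.range (pullback.diagonal f)) =
    coborder (Set.range (pullback.diagonal f))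
  refine (coborder_preimage (f := ⇑(pullbackSymmetry f f).hom)
    (pullbackSymmetry f f).hom.homeomorph.isOpenMap
    (pullbackSymmetry f f).hom.continuous _).symm.trans ?_
  congr 1
  ext z
  constructor
  · rintro ⟨x, hx⟩
    refine ⟨x, ?_⟩
    apply (pullbackSymmetry f f).hom.homeomorph.injective
    show (pullbackSymmetry f f).hom _ = (pullbackSymmetry f f).hom z
    rw [← hx, ← Scheme.Hom.comp_apply, diagonal_symmetry]
  · rintro ⟨x, rfl⟩
    exact ⟨x, by rw [← Scheme.Hom.comp_apply, diagonal_symmetry]⟩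

theorem exists_symmetry :
    ∃ σ : PrinPart.nbhd f n ⟶ PrinPart.nbhd f n,
      σ ≫ PrinPart.nbhdι f n = PrinPart.nbhdι f n ≫ (pullbackSymmetry f f).hom ∧
      σ ≫ σ = 𝟙 (PrinPart.nbhd f n) ∧
      σ ≫ PrinPart.pr1 f n = PrinPart.pr2 f n ∧ σ ≫ PrinPart.pr2 f n = PrinPart.pr1 f n ∧
      PrinPart.toNbhd f n ≫ σ = PrinPart.toNbhd f n := by
  set s := (pullbackSymmetry f f).hom with hs_def
  set C := (pullback.diagonal f).coborderRange
  have hC : s ⁻¹ᵁ C = C := symmetry_preimage f
  have hrange : Set.range (C.ι ≫ s) ⊆ Set.range C.ι := by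
    rintro _ ⟨x, rfl⟩
    rw [Scheme.Hom.comp_apply, Scheme.Opens.range_ι]
    exact (hC.ge x.2 : C.ι x ∈ s ⁻¹ᵁ C)
  set sC : C.toScheme ⟶ C.toScheme := IsOpenImmersion.lift C.ι (C.ι ≫ s) hrange with hsC_def
  have hsC : sC ≫ C.ι = C.ι ≫ s := IsOpenImmersion.lift_fac _ _ _
  have hss : s ≫ s = 𝟙 _ := by apply pullback.hom_ext <;> simp [s]
  have hsC2 : sC ≫ sC = 𝟙 _ := by
    rw [← cancel_mono C.ι, Category.assoc, hsC, reassoc_of% hsC, hss, Category.comp_id,
      Category.id_comp]
  haveI : IsIso sC := ⟨sC, hsC2, hsC2⟩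
  have hd : PrinPart.diagCl f ≫ sC = PrinPart.diagCl f := by
    rw [← cancel_mono C.ι, Category.assoc, hsC]
    simp [s, C, diagonal_symmetry]
  have hk : (PrinPart.diagCl f).ker.comap sC = (PrinPart.diagCl f).ker :=
    (FComplLib.ker_of_isPullback
      (IsPullback.of_vert_isIso (fst := PrinPart.diagCl f) (snd := 𝟙 X) (f := sC)
        (g := PrinPart.diagCl f) ⟨by rw [hd, Category.id_comp]⟩)).symm
  set ι := PrinPart.infNbhdι (PrinPart.diagCl f) n with hι_def
  haveI : IsClosedImmersion ι := inferInstanceAs (IsClosedImmersion (Scheme.IdealSheafData.subschemeι _))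
  have hle : ι.ker ≤ (ι ≫ sC).ker := by
    rw [← Scheme.IdealSheafData.map_ker, Scheme.IdealSheafData.le_map_iff_comap_le,
      hι_def, PrinPart.infNbhdι, Scheme.IdealSheafData.ker_subschemeι, FComplLib.comap_pow, hk]
  set σ := IsClosedImmersion.lift ι (ι ≫ sC) hle with hσ_def
  have hσ : σ ≫ ι = ι ≫ sC := IsClosedImmersion.lift_fac _ _ _
  have h1 : σ ≫ PrinPart.nbhdι f n = PrinPart.nbhdι f n ≫ s := by
    rw [PrinPart.nbhdι, Category.assoc, ← hsC, ← Category.assoc, hσ, Category.assoc]
  refine ⟨σ, h1, ?_, ?_, ?_, ?_⟩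
  · rw [← cancel_mono ι, Category.assoc, hσ, reassoc_of% hσ, hsC2, Category.comp_id,
      Category.id_comp]
  · rw [PrinPart.pr1, PrinPart.pr2, reassoc_of% h1, hs_def, pullbackSymmetry_hom_comp_fst]
  · rw [PrinPart.pr1, PrinPart.pr2, reassoc_of% h1, hs_def, pullbackSymmetry_hom_comp_snd]
  · rw [← cancel_mono ι, Category.assoc, hσ, hι_def, PrinPart.toInfNbhd_ι_assoc, hd,
      PrinPart.toInfNbhd_ι]

theorem pr1_leftInverse : Function.LeftInverse (PrinPart.toNbhd f n) (PrinPart.pr1 f n) := by
  intro z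
  obtain ⟨y, rfl⟩ := PrinPart.toInfNbhd_surjective (PrinPart.diagCl f) n z
  congr 1
  rw [← Scheme.Hom.comp_apply, PrinPart.toNbhd_pr1]
  rfl

/-- The first projection is a homeomorphism. -/
noncomputable def pr1Homeo : PrinPart.nbhd f n ≃ₜ X where
  toFun := PrinPart.pr1 f n
  invFun := PrinPart.toNbhd f n
  left_inv := pr1_leftInverse f n
  right_inv y := by
    rw [← Scheme.Hom.comp_apply, PrinPart.toNbhd_pr1]
    rfl
  continuous_toFun := (PrinPart.pr1 f n).continuous
  continuous_invFun := (PrinPart.toNbhd f n).continuous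

instance isClEmb_pr1 : RelPC13.IsClEmb (PrinPart.pr1 f n) :=
  ⟨(pr1Homeo f n).isClosedEmbedding⟩

end Diag

section Push

open Groth.Agent.KFlatLib

set_option backward.isDefEq.respectTransparency false
set_option backward.isDefEq.respectTransparency.types false

variable {X Y : Scheme.{u}} (g : X ⟶ Y) [RelPC13.IsClEmb g]

/-- Pushforward along a closed embedding commutes with small colimits. -/
theorem preservesColimitsOfShape_push (K : Type u) [SmallCategory K] :
    PreservesColimitsOfShape K (Scheme.Modules.pushforward g) := ⟨fun {F} => by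
  haveI : IsIso (colimit.post F (Scheme.Modules.pushforward g)) := isIso_of_stalk _ fun y => by
    let S := stalkAb (X := Y) y
    haveI : PreservesColimit F (Scheme.Modules.pushforward g ⋙ S) := by
      by_cases hy : y ∈ Set.range g.base
      · obtain ⟨x, rfl⟩ := hy
        exact preservesColimit_of_natIso F (RelPC13.stalkPushIso g x).symm
      · exact ⟨fun {c} hc => ⟨{
          desc := fun t => 0
          fac := fun t i => (RelPC13.isZero_stalk_push g y hy (F.obj i)).eq_of_src _ _
          uniq := fun t m _ => (RelPC13.isZero_stalk_push g y hy c.pt).eq_of_src _ _ }⟩⟩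
    haveI : IsIso (colimit.post (F ⋙ Scheme.Modules.pushforward g) S ≫
        S.map (colimit.post F (Scheme.Modules.pushforward g))) := by
      rw [colimit.post_post F (Scheme.Modules.pushforward g) S]
      exact (inferInstance : IsIso (colimit.post F (Scheme.Modules.pushforward g ⋙ S)))
    have h : IsIso (S.map (colimit.post F (Scheme.Modules.pushforward g))) :=
      IsIso.of_isIso_comp_left (colimit.post (F ⋙ Scheme.Modules.pushforward g) S) _
    exact @isIso_of_reflects_iso _ _ _ _ _ _ _
      (forget₂ (ModuleCat (Y.presheaf.stalk y)) AddCommGrpCat) h _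
  exact preservesColimit_of_isIso_post _ F⟩

end Push

theorem preservesColimits_principalParts {X S : Scheme.{u}} (f : X ⟶ S) (n : ℕ) :
    PreservesColimitsOfSize.{u, u}
      ((Scheme.Modules.pullback (PrinPart.pr2 f n)) ⋙
        (Scheme.Modules.pushforward (PrinPart.pr1 f n))) := by
  haveI : PreservesColimitsOfSize.{u, u} (Scheme.Modules.pullback (PrinPart.pr2 f n)) :=
    (Scheme.Modules.pullbackPushforwardAdjunction (PrinPart.pr2 f n)).leftAdjoint_preservesColimits
  haveI : PreservesColimitsOfSize.{u, u} (Scheme.Modules.pushforward (PrinPart.pr1 f n)) :=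
    ⟨fun {K} _ => preservesColimitsOfShape_push _ K⟩
  exact comp_preservesColimits _ _

theorem isFinite_infNbhd {X Y : Scheme.{u}} (g : X ⟶ Y) [LocallyOfFiniteType g] (f : Y ⟶ X)
    [IsClosedImmersion f] (hf : f ≫ g = 𝟙 Y) (n : ℕ) :
    IsFinite (PrinPart.infNbhdι f n ≫ g) := by
  haveI : IsClosedImmersion (PrinPart.infNbhdι f n) :=
    inferInstanceAs (IsClosedImmersion (Scheme.IdealSheafData.subschemeι _))
  haveI : IsClosedImmersion (PrinPart.toInfNbhd f n) := by
    haveI : IsClosedImmersion (PrinPart.toInfNbhd f n ≫ PrinPart.infNbhdι f n) := by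
      rwa [PrinPart.toInfNbhd_ι]
    exact IsClosedImmersion.of_comp _ (PrinPart.infNbhdι f n)
  haveI : Surjective (PrinPart.toInfNbhd f n) := ⟨PrinPart.toInfNbhd_surjective f n⟩
  have w : PrinPart.toInfNbhd f n ≫ (PrinPart.infNbhdι f n ≫ g) = 𝟙 Y ≫ 𝟙 Y := by
    rw [PrinPart.toInfNbhd_ι_assoc, hf, Category.id_comp]
  rw [IsFinite.iff_isIntegralHom_and_locallyOfFiniteType]
  exact ⟨(MorLib.Thick.isIntegralHom_iff (PrinPart.toInfNbhd f n) (𝟙 Y) (𝟙 Y) _ w).mp
    inferInstance, inferInstance⟩

end Groth.Agent.Nrm34
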