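import Groth.Agent.Nrm34.Diff
import Groth.Agent.Synt29.ConormalSeq

/-!
# The conormal sequence of two immersions
-/

set_option autoImplicit false
set_option linter.style.haveILetI false

universe u

open CategoryTheory CategoryTheory.Limits AlgebraicGeometry TopologicalSpace Opposite

namespace Groth.Agent.Nrm34

open Synt29.OmegaStalk Synt29.ConormalStalk Synt29.ConormalExact Synt29.ConormalSeq
  Groth.Agent.KFlatLib

variable {Y' Y X : Scheme.{u}} (f : Y ⟶ X) [IsImmersion f] [QuasiCompact f]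
  (j : Y' ⟶ Y) [IsImmersion j] [QuasiCompact j]

section Phi1

variable (φ₁ : (Scheme.Modules.pullback j).obj (Omega.conormal f) ⟶ Omega.conormal (j ≫ f))
  (hφ₁ : OmegaSh.IsConormalMap (j ≫ f) f (𝟙 X) j φ₁)

include hφ₁ in
theorem phi_gen (W : X.Opens) (t : Γ(ClSub.idealMod f.ker, W)) {x : Y'}
    (hx : x ∈ (j ≫ f) ⁻¹ᵁ W) :
    ∃ s : Γ(ClSub.idealMod (j ≫ f).ker, W),
      OmegaSh.idealSect (j ≫ f).ker W s = OmegaSh.idealSect f.ker W t ∧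
      (DerSch.stalkFunctor Y' x).map φ₁
        (gm _ (show x ∈ j ⁻¹ᵁ (f ⁻¹ᵁ W) from hx)
          (OmegaSh.pullSect j (Omega.conormal f) (f ⁻¹ᵁ W) (OmegaSh.conormalSect f W t))) =
        gm _ hx (OmegaSh.conormalSect (j ≫ f) W s) := by
  have h0 : (j ≫ f).app W (OmegaSh.idealSect f.ker W t) = 0 :=
    (congrArg (j.app (f ⁻¹ᵁ W)) (OmegaUniv.app_idealSect f W t)).trans (map_zero _)
  obtain ⟨s, hs⟩ := OmegaUniv.exists_idealSect_of_app_eq_zero (j ≫ f) _ _ h0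
  refine ⟨s, hs, ?_⟩
  refine (DerSch.stalkFunctor_map_germ x φ₁ _ _ _).trans ?_
  have h1 := hφ₁.2 W t s (by rw [Scheme.Hom.id_app]; exact hs) ((j ≫ f) ⁻¹ᵁ W) le_rfl le_rfl
  have h2 := congrArg (gm (Omega.conormal (j ≫ f)) hx) h1
  erw [gm_res, gm_res] at h2
  exact h2

end Phi1

variable (φ₁ : (Scheme.Modules.pullback j).obj (Omega.conormal f) ⟶ Omega.conormal (j ≫ f))
  (hφ₁ : OmegaSh.IsConormalMap (j ≫ f) f (𝟙 X) j φ₁)
  (φ₂ : (Scheme.Modules.pullback (𝟙 Y')).obj (Omega.conormal (j ≫ f)) ⟶ Omega.conormal j)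
  (hφ₂ : OmegaSh.IsConormalMap j (j ≫ f) f (𝟙 Y') φ₂)

include hφ₂ in
theorem psi_gm (U' : X.Opens) (s' : Γ(ClSub.idealMod (j ≫ f).ker, U')) {x : Y'}
    (hx : x ∈ j ⁻¹ᵁ f ⁻¹ᵁ U') :
    ∃ s : Γ(ClSub.idealMod j.ker, f ⁻¹ᵁ U'),
      OmegaSh.idealSect j.ker (f ⁻¹ᵁ U') s = f.app U' (OmegaSh.idealSect (j ≫ f).ker U' s') ∧
      (DerSch.stalkFunctor Y' x).map
          ((Scheme.Modules.pullbackId Y').inv.app (Omega.conormal (j ≫ f)) ≫ φ₂)
          (gm _ (show x ∈ (j ≫ f) ⁻¹ᵁ U' from hx) (OmegaSh.conormalSect (j ≫ f) U' s')) =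
        gm _ hx (OmegaSh.conormalSect j (f ⁻¹ᵁ U') s) := by
  obtain ⟨s, hs, he⟩ := psi_gen f j φ₂ hφ₂ U' s' (x := x) hx
  refine ⟨s, hs, ?_⟩
  rw [Functor.map_comp, ModuleCat.comp_apply]
  refine Eq.trans (congrArg ((DerSch.stalkFunctor Y' x).map φ₂) ?_) he
  refine (DerSch.stalkFunctor_map_germ x _ _ _ _).trans ?_
  exact congrArg _ (pullbackId_inv_app _ _)

include hφ₂ in
theorem epi_phi2 : Epi φ₂ := by
  suffices h : Epi ((Scheme.Modules.pullbackId Y').inv.app (Omega.conormal (j ≫ f)) ≫ φ₂) from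
    epi_of_epi ((Scheme.Modules.pullbackId Y').inv.app (Omega.conormal (j ≫ f))) φ₂
  rw [epi_iff_stalk]
  intro x z
  obtain ⟨U, hx, k, rfl⟩ := exists_conormalSect j x z
  have hrep : Rep j (j x) (gm (I j) hx k) (Y.presheaf.germ U (j x) hx (OmegaSh.idealSect j.ker U k)) :=
    ⟨U, hx, k, rfl, rfl⟩
  obtain ⟨a, ha⟩ := f.stalkMap_surjective (j x) (Y.presheaf.germ U (j x) hx (OmegaSh.idealSect j.ker U k))
  have ha0 : (j ≫ f).stalkMap x a = 0 :=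
    (congr($(Scheme.Hom.stalkMap_comp j f x) a)).trans
      ((congrArg (j.stalkMap x) ha).trans (rep_mem j hrep))
  obtain ⟨_, U', hy, s', -, hs'⟩ := exists_rep (j ≫ f) ha0
  obtain ⟨s, hs, he⟩ := psi_gm f j φ₂ hφ₂ U' s' (x := x) hy
  refine ⟨_, he.trans ?_⟩
  have hm : gm (I j) (show j x ∈ f ⁻¹ᵁ U' from hy) s = gm (I j) hx k := by
    refine rep_inj j ⟨f ⁻¹ᵁ U', hy, s, rfl, ?_⟩ hrep
    rw [hs, ← ha, ← hs']
    exact (Scheme.Hom.germ_stalkMap_apply f U' (j x) hy _).symm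
  refine (ConcreteCategory.bijective_of_isIso ((stalkPullbackIso j x).app (I j)).hom).1 ?_
  refine (stalkPullbackIso_gm j (I j) x (show x ∈ j ⁻¹ᵁ f ⁻¹ᵁ U' from hy) s).trans ?_
  rw [hm]
  exact (stalkPullbackIso_gm j (I j) x hx k).symm

include hφ₁ hφ₂ in
theorem comp_zero : φ₁ ≫ (Scheme.Modules.pullbackId Y').inv.app (Omega.conormal (j ≫ f)) ≫ φ₂ = 0 := by
  refine hom_ext_stalk _ _ fun x z => ?_
  rw [Functor.map_zero]
  obtain ⟨m, hm⟩ := exists_unit j x (j.stalkMap_surjective x) _ z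
  obtain ⟨W, hW, t, rfl⟩ := exists_conormalSect f (j x) m
  have hz : z = gm _ (show x ∈ j ⁻¹ᵁ (f ⁻¹ᵁ W) from hW)
      (OmegaSh.pullSect j (Omega.conormal f) (f ⁻¹ᵁ W) (OmegaSh.conormalSect f W t)) :=
    (ConcreteCategory.bijective_of_isIso ((stalkPullbackIso j x).app _).hom).1
      (hm.trans (stalkPullbackIso_gm j _ x (show x ∈ j ⁻¹ᵁ (f ⁻¹ᵁ W) from hW) _).symm)
  obtain ⟨s', hs', he⟩ := phi_gen f j φ₁ hφ₁ W t (x := x) hW
  obtain ⟨s, hs, he'⟩ := psi_gm f j φ₂ hφ₂ W s' (x := x) hW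
  rw [hz, Functor.map_comp]
  refine (congrArg _ he).trans (he'.trans ?_)
  have h0 : s = 0 := OmegaLib.idealSect_injective j.ker _ (by
    rw [hs, hs', map_zero, OmegaUniv.app_idealSect])
  rw [h0, map_zero, map_zero]
  rfl

include hφ₁ hφ₂ in
theorem exact_two_immersions :
    Epi φ₂ ∧ imageSubobject φ₁ =
      kernelSubobject ((Scheme.Modules.pullbackId Y').inv.app (Omega.conormal (j ≫ f)) ≫ φ₂) := by
  refine ⟨epi_phi2 f j φ₂ hφ₂, ?_⟩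
  refine (ShortComplex.mk _ _ (comp_zero f j φ₁ hφ₁ φ₂ hφ₂)).exact_iff_image_eq_kernel.mp ?_
  rw [exact_iff_stalk]
  intro x
  rw [ShortComplex.moduleCat_exact_iff]
  intro z hz
  obtain ⟨U', hx, s', rfl⟩ := exists_conormalSect (j ≫ f) x z
  obtain ⟨s, hs, he⟩ := psi_gm f j φ₂ hφ₂ U' s' (x := x) hx
  have h0 : gm (Omega.conormal j) (show x ∈ j ⁻¹ᵁ f ⁻¹ᵁ U' from hx)
      (OmegaSh.conormalSect j (f ⁻¹ᵁ U') s) = 0 := he.symm.trans hz
  have h1 : unit1 j x (gm (I j) (show j x ∈ f ⁻¹ᵁ U' from hx) s) = 0 :=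
    (stalkPullbackIso_gm j (I j) x (show x ∈ j ⁻¹ᵁ f ⁻¹ᵁ U' from hx) s).symm.trans
      ((congrArg _ h0).trans (map_zero _))
  have h2 := mem_sq_of_unit1_eq_zero j (j.stalkMap_surjective x) ⟨f ⁻¹ᵁ U', hx, s, rfl, rfl⟩ h1
  rw [hs] at h2
  let α := f.stalkMap (j x)
  let β := j.stalkMap x
  let a' : X.presheaf.stalk ((j ≫ f) x) := X.presheaf.germ U' ((j ≫ f) x) hx
    (OmegaSh.idealSect (j ≫ f).ker U' s')
  have h3 : α a' ∈ RingHom.ker β.hom ^ 2 := by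
    convert h2 using 1
    exact Scheme.Hom.germ_stalkMap_apply f U' (j x) hx _
  have hL : RingHom.ker β.hom = (RingHom.ker (α ≫ β).hom).map α.hom := by
    rw [CommRingCat.hom_comp, ← RingHom.comap_ker]
    exact (Ideal.map_comap_of_surjective _ (f.stalkMap_surjective (j x)) _).symm
  rw [hL, ← Ideal.map_pow] at h3
  obtain ⟨b, hb, hb'⟩ := (Ideal.mem_map_iff_of_surjective _ (f.stalkMap_surjective (j x))).1 h3
  change X.presheaf.stalk ((j ≫ f) x) at b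
  have hc : f.stalkMap (j x) (a' - b) = 0 := (map_sub α.hom a' b).trans (sub_eq_zero.2 hb'.symm)
  obtain ⟨_, W, hW, t, -, ht⟩ := exists_rep f hc
  obtain ⟨s'', hs'', he''⟩ := phi_gen f j φ₁ hφ₁ W t (x := x) hW
  refine ⟨gm _ (show x ∈ j ⁻¹ᵁ (f ⁻¹ᵁ W) from hW)
    (OmegaSh.pullSect j (Omega.conormal f) (f ⁻¹ᵁ W) (OmegaSh.conormalSect f W t)), he''.trans ?_⟩
  have hrep' : Rep (j ≫ f) ((j ≫ f) x) (gm (I (j ≫ f)) (show (j ≫ f) x ∈ W from hW) s'') (a' - b) :=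
    ⟨W, hW, s'', rfl, by rw [hs'']; exact ht⟩
  have hrep : Rep (j ≫ f) ((j ≫ f) x) (gm (I (j ≫ f)) hx s') a' := ⟨U', hx, s', rfl, rfl⟩
  have hbk : b ∈ RingHom.ker ((j ≫ f).stalkMap x).hom ^ 2 := by
    rwa [Scheme.Hom.stalkMap_comp j f x]
  obtain ⟨m, hm⟩ := exists_rep (j ≫ f)
    (RingHom.mem_ker.mp (Ideal.pow_le_self two_ne_zero hbk))
  have hsum : gm (I (j ≫ f)) (show (j ≫ f) x ∈ U' from hx) s' = gm (I (j ≫ f)) (show (j ≫ f) x ∈ W from hW) s'' + m := by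
    have h := rep_add (j ≫ f) hrep' hm
    refine rep_inj (j ≫ f) (a := a') hrep ?_
    convert h using 1
    exact (sub_add_cancel (G := X.presheaf.stalk ((j ≫ f) x)) a' b).symm
  refine (ConcreteCategory.bijective_of_isIso ((stalkPullbackIso (j ≫ f) x).app (I (j ≫ f))).hom).1 ?_
  refine (stalkPullbackIso_gm (j ≫ f) _ x (show x ∈ (j ≫ f) ⁻¹ᵁ W from hW) s'').trans
    (Eq.trans ?_ (stalkPullbackIso_gm (j ≫ f) _ x hx s').symm)
  show unit1 (j ≫ f) x _ = unit1 (j ≫ f) x _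
  rw [hsum]
  exact ((map_add _ _ _).trans
    ((congrArg (_ + ·) (unit1_eq_zero_of_mem_sq (j ≫ f) hm hbk)).trans (add_zero _))).symm

end Groth.Agent.Nrm34
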