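import Groth.Agent.PPSheaf.Gen
import Mathlib.AlgebraicGeometry.Morphisms.ClosedImmersion

/-!
# Surjectivity of maps of principal parts
-/

set_option autoImplicit false

universe u

open CategoryTheory CategoryTheory.Limits AlgebraicGeometry TopologicalSpace Opposite

namespace Groth.Agent.Nrm34

/-- Functions on a closed subscheme lift locally. -/
theorem exists_local_lift {X Y : Scheme.{u}} (j : X ⟶ Y) [IsClosedImmersion j] (U : X.Opens)
    (t : Γ(X, U)) (x : X) (hx : x ∈ U) :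
    ∃ (V : Y.Opens) (h : j ⁻¹ᵁ V ≤ U) (b : Γ(Y, V)), x ∈ j ⁻¹ᵁ V ∧
      j.app V b = X.presheaf.map (homOfLE h).op t := by
  obtain ⟨s, hs⟩ := j.stalkMap_surjective x (X.presheaf.germ U x hx t)
  obtain ⟨Vb, hVb, b, rfl⟩ := Y.presheaf.exists_germ_eq s
  rw [Scheme.Hom.germ_stalkMap_apply] at hs
  obtain ⟨W, hxW, i₁, i₂, hW⟩ := X.presheaf.germ_eq x _ hx _ t hs
  obtain ⟨V', hV', hV'eq⟩ := j.isClosedEmbedding.isInducing.isOpen_iff.1 W.isOpen
  let V : Y.Opens := Vb ⊓ ⟨V', hV'⟩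
  have hVW : j ⁻¹ᵁ V ≤ W := fun y hy => (Set.ext_iff.1 hV'eq y).1 hy.2
  refine ⟨V, hVW.trans i₂.le, Y.presheaf.map (homOfLE inf_le_left).op b,
    ⟨hVb, (Set.ext_iff.1 hV'eq x).2 hxW⟩, ?_⟩
  have h2 := congrArg (X.presheaf.map (homOfLE hVW).op) hW
  simp only [← CommRingCat.comp_apply, Category.assoc, ← Functor.map_comp] at h2
  rw [← CommRingCat.comp_apply, j.naturality]
  exact h2

/-- A map of principal parts is an epimorphism as soon as functions lift locally. -/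
theorem epi_of_lift {X Y S S' : Scheme.{u}} (f : Y ⟶ S) (f' : X ⟶ S') (u : X ⟶ Y) (n : ℕ)
    (φ : (Scheme.Modules.pullback u).obj (PrinPart.P f n) ⟶ PrinPart.P f' n)
    (hφ : PrinPart.IsPMap f f' u n φ)
    (hl : ∀ (U : X.Opens) (t : Γ(X, U)) (x : X), x ∈ U → ∃ (V : Y.Opens) (h : u ⁻¹ᵁ V ≤ U)
      (b : Γ(Y, V)), x ∈ u ⁻¹ᵁ V ∧ u.app V b = X.presheaf.map (homOfLE h).op t) :
    Epi φ := by
  refine ⟨fun {G} a c h => PPSheaf.hom_ext_dP f' n _ G fun U s => ?_⟩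
  refine TopCat.Presheaf.section_ext ⟨G.presheaf, G.isSheaf⟩ U _ _ fun x hx => ?_
  obtain ⟨V, hVU, b, hxV, hb⟩ := hl U (s : Γ(X, U)) x hx
  have key : a.app (u ⁻¹ᵁ V) (PrinPart.dn f' n (u ⁻¹ᵁ V) (u.app V b)) =
      c.app (u ⁻¹ᵁ V) (PrinPart.dn f' n (u ⁻¹ᵁ V) (u.app V b)) := by
    rw [← hφ V b]
    exact congrArg (fun k : (Scheme.Modules.pullback u).obj (PrinPart.P f n) ⟶ G =>
      k.app (u ⁻¹ᵁ V) (OmegaSh.pullSect u (PrinPart.P f n) V (PrinPart.dn f n V b))) h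
  rw [hb] at key
  show G.presheaf.germ U x hx (a.app U (PrinPart.dP f' n _ U s)) =
    G.presheaf.germ U x hx (c.app U (PrinPart.dP f' n _ U s))
  rw [← G.presheaf.germ_res_apply (homOfLE hVU) x hxV, ← G.presheaf.germ_res_apply (homOfLE hVU) x hxV,
    ← Nrm6.hom_app_res, ← Nrm6.hom_app_res, ← PrinPart.dP_map]
  exact congrArg (G.presheaf.germ (u ⁻¹ᵁ V) x hxV) key

end Groth.Agent.Nrm34
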