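import Groth.Agent.Nrm34.Basic
import Groth.Agent.PPSheaf.Chart
import Groth.Agent.PPSheaf.Gen
import Groth.Agent.QCoh.Support
import Groth.Agent.ZClosLib.CohDescent
import Groth.Agent.ModStLib.FibGrpd
import Groth.Agent.S1178

/-!
# The first projection from the infinitesimal neighbourhood is affine, finite, finitely presented
-/

set_option autoImplicit false
set_option linter.style.haveILetI false

universe u

open CategoryTheory CategoryTheory.Limits AlgebraicGeometry TopologicalSpace Opposite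
open scoped TensorProduct

namespace Groth.Agent.Nrm34

variable {X S : Scheme.{u}} (f : X ⟶ S) (n : ℕ)

instance isClosedImmersion_toNbhd : IsClosedImmersion (PrinPart.toNbhd f n) := by
  haveI : IsClosedImmersion (PrinPart.infNbhdι (PrinPart.diagCl f) n) :=
    inferInstanceAs (IsClosedImmersion (Scheme.IdealSheafData.subschemeι _))
  haveI : IsClosedImmersion (PrinPart.toNbhd f n ≫ PrinPart.infNbhdι (PrinPart.diagCl f) n) := by
    rw [PrinPart.toInfNbhd_ι]; infer_instance
  exact IsClosedImmersion.of_comp _ (PrinPart.infNbhdι (PrinPart.diagCl f) n)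

instance surjective_toNbhd : Surjective (PrinPart.toNbhd f n) :=
  ⟨PrinPart.toInfNbhd_surjective (PrinPart.diagCl f) n⟩

theorem toNbhd_comp_pr1 :
    PrinPart.toNbhd f n ≫ PrinPart.pr1 f n = 𝟙 X ≫ 𝟙 X := by
  rw [PrinPart.toNbhd_pr1, Category.id_comp]

instance isAffineHom_pr1 : IsAffineHom (PrinPart.pr1 f n) :=
  (MorLib.Thick.isAffineHom_iff _ (𝟙 X) (𝟙 X) _ (toNbhd_comp_pr1 f n)).mp inferInstance

instance isIntegralHom_pr1 : IsIntegralHom (PrinPart.pr1 f n) :=
  (MorLib.Thick.isIntegralHom_iff _ (𝟙 X) (𝟙 X) _ (toNbhd_comp_pr1 f n)).mp inferInstance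

instance locallyOfFiniteType_pr1 [LocallyOfFiniteType f] :
    LocallyOfFiniteType (PrinPart.pr1 f n) := by
  haveI : IsClosedImmersion (PrinPart.infNbhdι (PrinPart.diagCl f) n) :=
    inferInstanceAs (IsClosedImmersion (Scheme.IdealSheafData.subschemeι _))
  haveI : LocallyOfFiniteType (PrinPart.nbhdι f n) := by
    unfold PrinPart.nbhdι; infer_instance
  unfold PrinPart.pr1; infer_instance

instance isFinite_pr1 [LocallyOfFiniteType f] : IsFinite (PrinPart.pr1 f n) :=
  (IsFinite.iff_isIntegralHom_and_locallyOfFiniteType _).mpr ⟨inferInstance, inferInstance⟩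

theorem locallyOfFinitePresentation_pr1 [LocallyOfFinitePresentation f] :
    LocallyOfFinitePresentation (PrinPart.pr1 f n) := by
  rw [HasRingHomProperty.iff_exists_appLE (P := @LocallyOfFinitePresentation)
    (RingHom.finitePresentation_stableUnderComposition.stableUnderCompositionWithLocalizationAway
      RingHom.finitePresentation_holdsForLocalizationAway).1]
  intro z
  obtain ⟨V, U, hxU, e⟩ := PPSheaf.exists_affine_pair f (PrinPart.pr1 f n z)
  letI := (f.appLE V.1 U.1 e).hom.toAlgebra
  haveI : Algebra.FinitePresentation Γ(S, V.1) Γ(X, U.1) := f.finitePresentation_appLE V.2 U.2 e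
  obtain ⟨hZu, ψ, hsurj, hker, hl, -⟩ := PPSheaf.exists_chart f V U e n rfl
  refine ⟨U, ⟨_, hZu⟩, hxU, le_rfl, ?_⟩
  have h1 : ((Algebra.TensorProduct.includeLeftRingHom :
      Γ(X, U.1) →+* Γ(X, U.1) ⊗[Γ(S, V.1)] Γ(X, U.1))).FinitePresentation := by
    exact RingHom.finitePresentation_algebraMap.mpr
      (Algebra.FinitePresentation.baseChange (R := Γ(S, V.1)) (A := Γ(X, U.1)) Γ(X, U.1))
  have h2 : ψ.FinitePresentation := RingHom.FinitePresentation.of_surjective ψ hsurj
    (by rw [hker]; exact (KaehlerDifferential.ideal_fg _ _).pow)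
  have h3 := h2.comp h1
  rw [← Scheme.Hom.app_eq_appLE]
  rwa [show ψ.comp Algebra.TensorProduct.includeLeftRingHom = ((PrinPart.pr1 f n).app U.1).hom from
    RingHom.ext hl] at h3

theorem isQCoh_PMod (F : X.Modules) (hF : Coh.IsQCoh F) : Coh.IsQCoh (PrinPart.PMod f n F) :=
  QCoh.isQCoh_pushforward _ (QCoh.isQCoh_pullback _ hF)

theorem isCoh_PMod [LocallyOfFiniteType f] (F : X.Modules) (hF : Coh.IsCoh F) :
    Coh.IsCoh (PrinPart.PMod f n F) :=
  QCoh.isCoh_pushforward_finite _ (ZClosLib.isCoh_pullback _ hF)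

theorem isFP_PMod [LocallyOfFinitePresentation f] (F : X.Modules) (hF : CohB1.IsFP F) :
    CohB1.IsFP (PrinPart.PMod f n F) := by
  haveI := locallyOfFinitePresentation_pr1 f n
  have h := ModStLib.isFP_pullback (PrinPart.pr2 f n) hF
  haveI : ((Scheme.Modules.pullback (PrinPart.pr2 f n)).obj F).IsQuasicoherent :=
    QCoh.isQCoh_of_isFP h
  exact (Groth.Agent.S1178.result (PrinPart.pr1 f n) _).mp h

end Groth.Agent.Nrm34
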