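import Groth.Agent.Nrm34.Basic
import Groth.Agent.H23.ClosedPushLen
import Groth.Agent.KFlatLib.Scheme.FlatDescent
import Groth.Agent.CurveBC.Coh

/-!
# Flat principal parts: the projections are flat
-/

set_option autoImplicit false
set_option linter.style.haveILetI false

universe u

open CategoryTheory CategoryTheory.Limits AlgebraicGeometry TopologicalSpace Opposite

namespace Groth.Agent.Nrm34

/-- A closed embedding with flat direct image of the structure sheaf is flat. -/
theorem flat_of_isFlat_push {X Y : Scheme.{u}} (f : X ⟶ Y) [RelPC13.IsClEmb f]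
    (h : FlatMod.IsFlat ((Scheme.Modules.pushforward f).obj (Coh.structureModule X))) : Flat f := by
  refine Flat.of_stalkMap _ fun x => ?_
  let M := Coh.structureModule X
  let P := (Scheme.Modules.pushforward f).obj M
  haveI : IsIso (TopCat.Presheaf.stalkPushforward Ab.{u} f.base M.presheaf x) :=
    TopCat.Presheaf.stalkPushforward.stalkPushforward_iso_of_isInducing Ab.{u}
      (RelPC13.IsClEmb.emb (f := f)).isInducing M.presheaf x
  let e : P.presheaf.stalk (f x) ≃+ M.presheaf.stalk x :=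
    (asIso (TopCat.Presheaf.stalkPushforward Ab.{u} f.base M.presheaf x)).addCommGroupIsoToAddEquiv
  have he : ∀ (U : Y.Opens) (hU : f x ∈ U) (v : Γ(P, U)),
      e (P.presheaf.germ U (f x) hU v) = M.presheaf.germ (f ⁻¹ᵁ U) x hU v := fun U hU v =>
    congrArg (fun φ => φ v) (TopCat.Presheaf.stalkPushforward_germ Ab.{u} f.base M.presheaf U x hU)
  let φ := (f.stalkMap x).hom
  letI := φ.toAlgebra
  letI : Module (Y.presheaf.stalk (f x)) (M.presheaf.stalk x) := Module.compHom _ φ
  haveI : IsScalarTower (Y.presheaf.stalk (f x)) (X.presheaf.stalk x) (M.presheaf.stalk x) :=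
    IsScalarTower.of_algebraMap_smul fun _ _ => rfl
  haveI : Module.Flat (Y.presheaf.stalk (f x)) (P.presheaf.stalk (f x)) := h (f x)
  haveI : Module.Flat (Y.presheaf.stalk (f x)) (M.presheaf.stalk x) := by
    refine Module.Flat.of_linearEquiv (M := P.presheaf.stalk (f x))
      (LinearEquiv.symm { e with map_smul' := ?_ })
    intro a m
    obtain ⟨U, hU, b, rfl⟩ := Y.presheaf.exists_germ_eq (x := f x) a
    obtain ⟨V, hV, v, rfl⟩ := P.presheaf.exists_germ_eq m
    have hW : f x ∈ U ⊓ V := ⟨hU, hV⟩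
    simp only [AddEquiv.toEquiv_eq_coe, Equiv.toFun_as_coe, EquivLike.coe_coe, RingHom.id_apply]
    rw [← Y.presheaf.germ_res_apply (homOfLE inf_le_left : U ⊓ V ⟶ U) (f x) hW b,
      ← P.presheaf.germ_res_apply (homOfLE inf_le_right : U ⊓ V ⟶ V) (f x) hW v]
    generalize Y.presheaf.map (homOfLE inf_le_left : U ⊓ V ⟶ U).op b = b'
    generalize P.presheaf.map (homOfLE inf_le_right : U ⊓ V ⟶ V).op v = v'
    rw [← QCoh.germ_smul' P hW, he, he]
    refine (QCoh.germ_smul' M (show x ∈ f ⁻¹ᵁ (U ⊓ V) from hW) (f.app _ b') v').trans ?_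
    exact congrArg (fun t => t • M.presheaf.germ (f ⁻¹ᵁ (U ⊓ V)) x hW v')
      (Scheme.Hom.germ_stalkMap_apply f (U ⊓ V) x hW b').symm
  let L : X.presheaf.stalk x ≃ₗ[X.presheaf.stalk x] M.presheaf.stalk x :=
    LinearEquiv.ofBijective
      (LinearMap.toSpanSingleton (X.presheaf.stalk x) _ (H23.UnitSec.one x))
      ⟨fun a b h' => sub_eq_zero.1 (H23.UnitSec.eq_zero_of_smul_one (a - b)
        (by rw [sub_smul]; exact sub_eq_zero.2 h')),
       fun m => Submodule.mem_span_singleton.1
        ((H23.UnitSec.span_one x).ge (Submodule.mem_top : m ∈ ⊤))⟩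
  exact (Module.Flat.of_linearEquiv (L.restrictScalars (Y.presheaf.stalk (f x))) :
    Module.Flat (Y.presheaf.stalk (f x)) (X.presheaf.stalk x))

variable {X S : Scheme.{u}} (f : X ⟶ S) (n : ℕ)

theorem isFlat_of_iso {M N : X.Modules} (e : M ≅ N) (h : FlatMod.IsFlat M) : FlatMod.IsFlat N :=
  fun x => by
  haveI : Module.Flat (X.presheaf.stalk x) ((DerSch.stalkFunctor X x).obj M : Type u) := h x
  exact Module.Flat.of_linearEquiv ((DerSch.stalkFunctor X x).mapIso e).toLinearEquiv.symm

theorem flat_pr1 (hP : FlatMod.IsFlat (PrinPart.P f n)) : Flat (PrinPart.pr1 f n) :=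
  flat_of_isFlat_push _ (isFlat_of_iso
    ((Scheme.Modules.pushforward (PrinPart.pr1 f n)).mapIso (CurveBC.unitIso (PrinPart.pr2 f n))) hP)

theorem flat_pr2 (hP : FlatMod.IsFlat (PrinPart.P f n)) : Flat (PrinPart.pr2 f n) := by
  obtain ⟨σ, -, h2, h3, -, -⟩ := exists_symmetry f n
  haveI : IsIso σ := ⟨σ, h2, h2⟩
  haveI := flat_pr1 f n hP
  rw [← h3]
  infer_instance

theorem preservesFiniteLimits_principalParts (hP : FlatMod.IsFlat (PrinPart.P f n)) :
    PreservesFiniteLimits
      ((Scheme.Modules.pullback (PrinPart.pr2 f n)) ⋙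
        (Scheme.Modules.pushforward (PrinPart.pr1 f n))) := by
  haveI := flat_pr2 f n hP
  haveI := KFlatLib.preservesHomology_pullback (PrinPart.pr2 f n)
  haveI : PreservesFiniteLimits (Scheme.Modules.pullback (PrinPart.pr2 f n)) :=
    (Scheme.Modules.pullback (PrinPart.pr2 f n)).preservesFiniteLimits_of_preservesHomology
  exact comp_preservesFiniteLimits _ _

end Groth.Agent.Nrm34
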