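import Groth.Agent.Nrm34.Finite
import Groth.Agent.OmegaLib.IdealMod
import Groth.Agent.QCoh.VanIdeal
import Groth.Agent.QCoh.FT

/-!
# `Gr_n` of a finitely presented closed immersion is coherent
-/

set_option autoImplicit false
set_option linter.style.haveILetI false

universe u

open CategoryTheory CategoryTheory.Limits AlgebraicGeometry TopologicalSpace Opposite

namespace Groth.Agent.Nrm34

variable {X Y : Scheme.{u}}

theorem isQCoh_idealMod (I : X.IdealSheafData) : Coh.IsQCoh (ClSub.idealMod I) :=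
  QCoh.isQCoh_kernel QCoh.isQCoh_structureModule
    (QCoh.isQCoh_pushforward I.subschemeι QCoh.isQCoh_structureModule) _

/-- Sections of the ideal module over an affine open. -/
noncomputable def idealModEquiv (I : X.IdealSheafData) (U : X.affineOpens) :
    Γ(ClSub.idealMod I, U.1) ≃ₗ[Γ(X, U.1)] (I.ideal U : Submodule Γ(X, U.1) Γ(X, U.1)) :=
  LinearEquiv.ofBijective
    { toFun := fun k => ⟨OmegaSh.idealSect I U.1 k, OmegaLib.idealSect_mem I U k⟩
      map_add' := fun a b => Subtype.ext (map_add _ a b)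
      map_smul' := fun r a => Subtype.ext (OmegaLib.idealSect_smul I U.1 r a) }
    ⟨fun a b h => OmegaLib.idealSect_injective I U.1 (congrArg Subtype.val h),
     fun x => by
      obtain ⟨k, hk⟩ := OmegaLib.exists_of_mem I U x.1 x.2
      exact ⟨k, Subtype.ext hk⟩⟩

theorem isCoh_idealMod_of_fg (I : X.IdealSheafData) (h : ∀ U, (I.ideal U).FG) :
    Coh.IsCoh (ClSub.idealMod I) := by
  refine QCoh.isCoh_iff.2 ⟨isQCoh_idealMod I, fun U => ?_⟩
  haveI : Module.Finite Γ(X, U.1) (I.ideal U : Submodule Γ(X, U.1) Γ(X, U.1)) :=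
    Module.Finite.iff_fg.2 (h U)
  exact Module.Finite.equiv (idealModEquiv I U).symm

theorem fg_ker (f : Y ⟶ X) [IsClosedImmersion f] [LocallyOfFinitePresentation f]
    (U : X.affineOpens) : (f.ker.ideal U).FG := by
  rw [Scheme.Hom.ker_apply]
  have hW : IsAffineOpen (f ⁻¹ᵁ U.1) := U.2.preimage f
  have hA : (f.appLE U.1 (f ⁻¹ᵁ U.1) le_rfl).hom.FinitePresentation :=
    f.finitePresentation_appLE U.2 hW le_rfl
  rw [← Scheme.Hom.app_eq_appLE] at hA
  letI : Algebra Γ(X, U.1) Γ(Y, f ⁻¹ᵁ U.1) := (f.app U.1).hom.toAlgebra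
  haveI : Algebra.FinitePresentation Γ(X, U.1) Γ(Y, f ⁻¹ᵁ U.1) := hA
  exact Algebra.FinitePresentation.ker_fG_of_surjective (Algebra.ofId Γ(X, U.1) Γ(Y, f ⁻¹ᵁ U.1))
    (f.app_surjective U.1 U.2)

theorem isCoh_grMod (f : Y ⟶ X) [IsClosedImmersion f] [LocallyOfFinitePresentation f] (n : ℕ) :
    Coh.IsCoh (PrinPart.grMod f n) := by
  refine ZClosLib.isCoh_pullback f (isCoh_idealMod_of_fg _ fun U => ?_)
  rw [Scheme.IdealSheafData.ideal_pow, Pi.pow_apply]
  exact (fg_ker f U).pow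

end Groth.Agent.Nrm34
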