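import Groth.Agent.Nrm34.GrCoh
import Groth.Agent.FComplLib.IdealComap
import Groth.Agent.KFlatLib.Scheme.FlatDescent
import Groth.Agent.CurveBC.Coh
import Groth.Agent.PPSheaf.Gen
import Groth.Agent.Nrm34.Sections
import Groth.Agent.OmegaLib.Affine

/-!
# Maps of graded pieces of infinitesimal neighbourhoods
-/

set_option autoImplicit false
set_option linter.style.haveILetI false

universe u

open CategoryTheory CategoryTheory.Limits AlgebraicGeometry TopologicalSpace Opposite

namespace Groth.Agent.Nrm34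

section General

variable {A B C : Scheme.{u}}

theorem pullbackComp_inv_pullSect (a : A ⟶ B) (b : B ⟶ C) (M : C.Modules) (U : C.Opens)
    (t : Γ(M, U)) :
    ((Scheme.Modules.pullbackComp a b).inv.app M).app ((a ≫ b) ⁻¹ᵁ U)
        (OmegaSh.pullSect (a ≫ b) M U t) =
      OmegaSh.pullSect a ((Scheme.Modules.pullback b).obj M) (b ⁻¹ᵁ U)
        (OmegaSh.pullSect b M U t) := by
  have h := unit_conjugateEquiv ((Scheme.Modules.pullbackPushforwardAdjunction b).comp
    (Scheme.Modules.pullbackPushforwardAdjunction a))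
    (Scheme.Modules.pullbackPushforwardAdjunction (a ≫ b))
    (Scheme.Modules.pullbackComp a b).inv M
  rw [Scheme.Modules.conjugateEquiv_pullbackComp_inv, Adjunction.comp_unit_app] at h
  exact (congrArg (fun k => (Scheme.Modules.Hom.app k U) t) h).symm

theorem pullbackComp_hom_pullSect (a : A ⟶ B) (b : B ⟶ C) (M : C.Modules) (U : C.Opens)
    (t : Γ(M, U)) :
    ((Scheme.Modules.pullbackComp a b).hom.app M).app (a ⁻¹ᵁ (b ⁻¹ᵁ U))
        (OmegaSh.pullSect a ((Scheme.Modules.pullback b).obj M) (b ⁻¹ᵁ U)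
          (OmegaSh.pullSect b M U t)) =
      OmegaSh.pullSect (a ≫ b) M U t := by
  rw [← pullbackComp_inv_pullSect]
  exact congrArg (fun k => (Scheme.Modules.Hom.app k ((a ≫ b) ⁻¹ᵁ U)) (OmegaSh.pullSect (a ≫ b) M U t))
    ((Scheme.Modules.pullbackComp a b).inv_hom_id_app M)

theorem pullbackCongr_pullSect {a b : A ⟶ B} (e : a = b) (M : B.Modules) (U : B.Opens)
    (t : Γ(M, U)) (W : A.Opens) (ha : W ≤ a ⁻¹ᵁ U) (hb : W ≤ b ⁻¹ᵁ U) :
    ((Scheme.Modules.pullbackCongr e).hom.app M).app W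
        (((Scheme.Modules.pullback a).obj M).presheaf.map (homOfLE ha).op
          (OmegaSh.pullSect a M U t)) =
      ((Scheme.Modules.pullback b).obj M).presheaf.map (homOfLE hb).op
        (OmegaSh.pullSect b M U t) := by
  subst e; rfl

/-- Maps out of a pullback agree if they agree on pulled back sections. -/
theorem pullback_hom_ext (g : A ⟶ B) {M : B.Modules} {N : A.Modules}
    {α β : (Scheme.Modules.pullback g).obj M ⟶ N}
    (h : ∀ (U : B.Opens) (t : Γ(M, U)),
      α.app (g ⁻¹ᵁ U) (OmegaSh.pullSect g M U t) = β.app (g ⁻¹ᵁ U) (OmegaSh.pullSect g M U t)) :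
    α = β := by
  apply ((Scheme.Modules.pullbackPushforwardAdjunction g).homEquiv M N).injective
  rw [Adjunction.homEquiv_unit, Adjunction.homEquiv_unit]
  refine Scheme.Modules.hom_ext _ _ fun U => ?_
  ext t
  exact h U t

/-- A map of modules is an epimorphism if its image generates locally. -/
theorem exists_span_of_comap (v : A ⟶ B) (J : B.IdealSheafData) (W : A.Opens)
    (s : Γ(ClSub.idealMod (J.comap v), W)) (x : A) (hx : x ∈ W) :
    ∃ (U : B.affineOpens) (V : A.affineOpens) (_ : x ∈ V.1) (hVW : V.1 ≤ W) (hVU : V.1 ≤ v ⁻¹ᵁ U.1),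
      OmegaSh.idealSect (J.comap v) V.1
          ((ClSub.idealMod (J.comap v)).presheaf.map (homOfLE hVW).op s) ∈
        (J.ideal U).map (v.appLE U.1 V.1 hVU).hom := by
  obtain ⟨_, ⟨U, hU, rfl⟩, hxU, -⟩ :=
    B.isBasis_affineOpens.exists_subset_of_mem_open (Set.mem_univ (v x)) isOpen_univ
  obtain ⟨_, ⟨V, hV, rfl⟩, hxV, hle⟩ := A.isBasis_affineOpens.exists_subset_of_mem_open
    (show x ∈ (W ⊓ v ⁻¹ᵁ U : A.Opens) from ⟨hx, hxU⟩) (W ⊓ v ⁻¹ᵁ U).isOpen
  refine ⟨⟨U, hU⟩, ⟨V, hV⟩, hxV, fun y hy => (hle hy).1, fun y hy => (hle hy).2, ?_⟩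
  rw [← ModPairLib.ideal_comap _ v ⟨U, hU⟩ ⟨V, hV⟩ (fun y hy => (hle hy).2)]
  exact OmegaLib.idealSect_mem _ ⟨V, hV⟩ _

end General

section IdealMap

variable {A B : Scheme.{u}} (v : A ⟶ B) (J : B.IdealSheafData) (J' : A.IdealSheafData)
  (h : J.comap v ≤ J')

include h

theorem app_idealSect_vanish (U : B.Opens) (s : Γ(ClSub.idealMod J, U)) :
    J'.subschemeι.app (v ⁻¹ᵁ U) (v.app U (OmegaSh.idealSect J U s)) = 0 := by
  let w : J'.subscheme ⟶ J.subscheme :=
    Scheme.IdealSheafData.inclusion h ≫ (J.comapIso v).hom ≫ pullback.snd _ _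
  have hw : w ≫ J.subschemeι = J'.subschemeι ≫ v := by simp [w, ← pullback.condition]
  have h0 : J.subschemeι.app U (OmegaSh.idealSect J U s) = 0 :=
    OmegaLib.subschemeι_app_idealSect J U s
  have h1 := congrArg (w.app (J.subschemeι ⁻¹ᵁ U)) h0
  rw [map_zero] at h1
  have h2 : (w ≫ J.subschemeι).app U (OmegaSh.idealSect J U s) = 0 := h1
  rw [Nrm6.app_eq_res hw] at h2
  exact PPSheaf.map_injective_of_eq (show (J'.subschemeι ≫ v) ⁻¹ᵁ U = (w ≫ J.subschemeι) ⁻¹ᵁ U by
    rw [hw]) _ (h2.trans (map_zero _).symm)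

/-- The image of a section of `J` as a section of `J'`. -/
noncomputable def idealLift (U : B.Opens) (s : Γ(ClSub.idealMod J, U)) :
    Γ(ClSub.idealMod J', v ⁻¹ᵁ U) :=
  (OmegaLib.exists_idealSect_eq J' (v ⁻¹ᵁ U) _ (app_idealSect_vanish v J J' h U s)).choose

theorem idealSect_idealLift (U : B.Opens) (s : Γ(ClSub.idealMod J, U)) :
    OmegaSh.idealSect J' (v ⁻¹ᵁ U) (idealLift v J J' h U s) = v.app U (OmegaSh.idealSect J U s) :=
  (OmegaLib.exists_idealSect_eq J' (v ⁻¹ᵁ U) _ (app_idealSect_vanish v J J' h U s)).choose_spec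

theorem idealLift_add (U : B.Opens) (s t : Γ(ClSub.idealMod J, U)) :
    idealLift v J J' h U (s + t) = idealLift v J J' h U s + idealLift v J J' h U t :=
  OmegaLib.idealSect_injective J' _ (by
    rw [map_add, idealSect_idealLift, idealSect_idealLift, idealSect_idealLift, map_add, map_add])

/-- `J ⟶ v_* J'`. -/
noncomputable def idealPush :
    ClSub.idealMod J ⟶ (Scheme.Modules.pushforward v).obj (ClSub.idealMod J') :=
  ⟨PresheafOfModules.homMk
    { app := fun U => AddCommGrpCat.ofHom (AddMonoidHom.mk' (idealLift v J J' h U.unop)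
        fun s t => idealLift_add v J J' h U.unop s t)
      naturality := fun U V i => by
        ext s
        refine OmegaLib.idealSect_injective J' _ ?_
        refine (idealSect_idealLift v J J' h _ _).trans ?_
        refine Eq.trans ?_ (OmegaLib.idealSect_map J' (v.preimage_mono i.unop.le)
          (idealLift v J J' h U.unop s)).symm
        refine Eq.trans ?_ (congrArg (A.presheaf.map (homOfLE (v.preimage_mono i.unop.le)).op)
          (idealSect_idealLift v J J' h U.unop s)).symm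
        refine (congrArg (v.app V.unop) (OmegaLib.idealSect_map J i.unop.le s)).trans ?_
        exact congr($(v.naturality (homOfLE i.unop.le).op) (OmegaSh.idealSect J U.unop s)) }
    fun U r s => OmegaLib.idealSect_injective J' _ (by
      show OmegaSh.idealSect J' _ (idealLift v J J' h U.unop
          ((show Γ(B, U.unop) from r) • (show Γ(ClSub.idealMod J, U.unop) from s))) =
        OmegaSh.idealSect J' _ (v.app U.unop (show Γ(B, U.unop) from r) •
          idealLift v J J' h U.unop (show Γ(ClSub.idealMod J, U.unop) from s))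
      rw [idealSect_idealLift, OmegaLib.idealSect_smul, OmegaLib.idealSect_smul,
        idealSect_idealLift, map_mul])⟩

/-- `v^* J ⟶ J'`. -/
noncomputable def idealPull : (Scheme.Modules.pullback v).obj (ClSub.idealMod J) ⟶ ClSub.idealMod J' :=
  ((Scheme.Modules.pullbackPushforwardAdjunction v).homEquiv _ _).symm (idealPush v J J' h)

theorem idealPull_pullSect (U : B.Opens) (s : Γ(ClSub.idealMod J, U)) :
    (idealPull v J J' h).app (v ⁻¹ᵁ U) (OmegaSh.pullSect v _ U s) = idealLift v J J' h U s := by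
  refine (OmegaLib.pullSect_adjoint v _ _ (idealPull v J J' h) U s).trans ?_
  rw [idealPull, Equiv.apply_symm_apply]
  rfl

end IdealMap

section Span

variable {A B : Scheme.{u}} (v : A ⟶ B) (J : B.IdealSheafData) {J' : A.IdealSheafData}
  (e : J' = J.comap v)

include e

/-- Linear maps out of `J'` agreeing on the images of sections of `J` are equal. -/
theorem hom_ext_comap {N : A.Modules} {α β : ClSub.idealMod J' ⟶ N}
    (h : ∀ (U : B.Opens) (s : Γ(ClSub.idealMod J, U)),
      α.app (v ⁻¹ᵁ U) (idealLift v J J' e.ge U s) = β.app (v ⁻¹ᵁ U) (idealLift v J J' e.ge U s)) :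
    α = β := by
  subst e
  refine Scheme.Modules.hom_ext _ _ fun W => ?_
  ext s
  refine TopCat.Presheaf.section_ext ⟨N.presheaf, N.isSheaf⟩ W _ _ fun x hx => ?_
  obtain ⟨U, V, hxV, hVW, hVU, hmem⟩ := exists_span_of_comap v J W s x hx
  show N.presheaf.germ W x hx (α.app W s) = N.presheaf.germ W x hx (β.app W s)
  rw [← N.presheaf.germ_res_apply (homOfLE hVW) x hxV, ← N.presheaf.germ_res_apply (homOfLE hVW) x hxV,
    ← Nrm6.hom_app_res, ← Nrm6.hom_app_res]
  congr 1
  suffices key : ∀ y ∈ (J.ideal U).map (v.appLE U.1 V.1 hVU).hom,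
      ∀ t, OmegaSh.idealSect (J.comap v) V.1 t = y → α.app V.1 t = β.app V.1 t from
    key _ hmem _ rfl
  intro y hy
  induction hy using Submodule.span_induction with
  | zero =>
    intro t ht
    rw [OmegaLib.idealSect_injective (J.comap v) V.1 (ht.trans (map_zero _).symm), map_zero, map_zero]
  | add y y' hy hy' iy iy' =>
    intro t ht
    obtain ⟨t₁, ht₁⟩ := OmegaLib.exists_of_mem (J.comap v) V y (by
      rw [ModPairLib.ideal_comap _ v U V hVU]; exact hy)
    obtain ⟨t₂, ht₂⟩ := OmegaLib.exists_of_mem (J.comap v) V y' (by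
      rw [ModPairLib.ideal_comap _ v U V hVU]; exact hy')
    rw [OmegaLib.idealSect_injective (J.comap v) V.1 (a₁ := t) (a₂ := t₁ + t₂)
      (by rw [ht, map_add, ht₁, ht₂]), map_add, map_add, iy t₁ ht₁, iy' t₂ ht₂]
  | smul r y hy iy =>
    intro t ht
    obtain ⟨t₁, ht₁⟩ := OmegaLib.exists_of_mem (J.comap v) V y (by
      rw [ModPairLib.ideal_comap _ v U V hVU]; exact hy)
    rw [OmegaLib.idealSect_injective (J.comap v) V.1 (a₁ := t) (a₂ := r • t₁)
      (by rw [ht, OmegaLib.idealSect_smul, ht₁, smul_eq_mul]), α.app_smul, β.app_smul, iy t₁ ht₁]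
  | mem y hy =>
    obtain ⟨b, hb, rfl⟩ := hy
    intro t ht
    obtain ⟨s₀, rfl⟩ := OmegaLib.exists_of_mem J U b hb
    have : t = (ClSub.idealMod (J.comap v)).presheaf.map (homOfLE hVU).op
        (idealLift v J (J.comap v) le_rfl U.1 s₀) := by
      refine OmegaLib.idealSect_injective (J.comap v) V.1 ?_
      rw [ht, OmegaLib.idealSect_map, idealSect_idealLift]
      rfl
    rw [this, Nrm6.hom_app_res, Nrm6.hom_app_res, h]

theorem epi_idealPull : Epi (idealPull v J J' e.ge) :=
  ⟨fun α β hαβ => hom_ext_comap v J e fun U s => by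
    rw [← idealPull_pullSect]
    exact congrArg (fun k : (Scheme.Modules.pullback v).obj (ClSub.idealMod J) ⟶ _ =>
      k.app (v ⁻¹ᵁ U) (OmegaSh.pullSect v _ U s)) hαβ⟩

theorem isIso_idealPull [Flat v] : IsIso (idealPull v J J' e.ge) := by
  haveI := epi_idealPull v J e
  haveI : Mono (idealPull v J J' e.ge) := by
    haveI := KFlatLib.preservesHomology_pullback v
    haveI : PreservesFiniteLimits (Scheme.Modules.pullback v) :=
      (Scheme.Modules.pullback v).preservesFiniteLimits_of_preservesHomology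
    haveI : Mono (ClSub.idealModι J) := inferInstanceAs (Mono (kernel.ι _))
    haveI : Mono ((Scheme.Modules.pullback v).map (ClSub.idealModι J) ≫ (CurveBC.unitIso v).hom) :=
      mono_comp _ _
    have hfac : idealPull v J J' e.ge ≫ ClSub.idealModι J' =
        (Scheme.Modules.pullback v).map (ClSub.idealModι J) ≫ (CurveBC.unitIso v).hom := by
      refine pullback_hom_ext v fun U s => ?_
      show (ClSub.idealModι J').app _ ((idealPull v J J' e.ge).app _ _) =
        (CurveBC.unitIso v).hom.app _ (((Scheme.Modules.pullback v).map (ClSub.idealModι J)).app _ _)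
      rw [idealPull_pullSect]
      have hn := congrArg (fun k => Scheme.Modules.Hom.app k U s)
        ((Scheme.Modules.pullbackPushforwardAdjunction v).unit.naturality (ClSub.idealModι J))
      refine (idealSect_idealLift v J J' e.ge U s).trans
        ((unitIso_pullSect v U (OmegaSh.idealSect J U s)).symm.trans ?_)
      exact congrArg ((CurveBC.unitIso v).hom.app (v ⁻¹ᵁ U)) hn
    haveI : Mono (idealPull v J J' e.ge ≫ ClSub.idealModι J') := hfac ▸ inferInstance
    exact mono_of_mono _ (ClSub.idealModι J')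
  exact isIso_of_mono_of_epi _

end Span

section Gr

variable {Y X Y' X' : Scheme.{u}} (f : Y ⟶ X) (v : X' ⟶ X) (u : Y' ⟶ Y) (f' : Y' ⟶ X')
  (w : u ≫ f = f' ≫ v) (n : ℕ) (h : (f.ker ^ n).comap v ≤ f'.ker ^ n)

/-- The canonical map of graded pieces. -/
noncomputable def grHom : (Scheme.Modules.pullback u).obj (PrinPart.grMod f n) ⟶ PrinPart.grMod f' n :=
  (Scheme.Modules.pullbackComp u f).hom.app _ ≫ (Scheme.Modules.pullbackCongr w).hom.app _ ≫
    (Scheme.Modules.pullbackComp f' v).inv.app _ ≫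
    (Scheme.Modules.pullback f').map (idealPull v _ _ h)

theorem grHom_value (U : X.Opens) (t : Γ(ClSub.idealMod (f.ker ^ n), U)) (W : Y'.Opens)
    (h₁ : W ≤ u ⁻¹ᵁ (f ⁻¹ᵁ U)) (h₂ : W ≤ f' ⁻¹ᵁ (v ⁻¹ᵁ U)) :
    (PrinPart.grMod f' n).presheaf.map (homOfLE h₁).op
        ((grHom f v u f' w n h).app (u ⁻¹ᵁ (f ⁻¹ᵁ U))
          (OmegaSh.pullSect u (PrinPart.grMod f n) (f ⁻¹ᵁ U) (PrinPart.grSect f n U t))) =
      (PrinPart.grMod f' n).presheaf.map (homOfLE h₂).op
        (PrinPart.grSect f' n (v ⁻¹ᵁ U) (idealLift v _ _ h U t)) := by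
  let M := ClSub.idealMod (f.ker ^ n)
  let a := (Scheme.Modules.pullbackComp u f).hom.app M
  let b := (Scheme.Modules.pullbackCongr w).hom.app M
  let c := (Scheme.Modules.pullbackComp f' v).inv.app M
  let d := (Scheme.Modules.pullback f').map (idealPull v _ _ h)
  let x := OmegaSh.pullSect u ((Scheme.Modules.pullback f).obj M) (f ⁻¹ᵁ U)
    (OmegaSh.pullSect f M U t)
  have k1 : ∀ {P Q : Y'.Modules} (k : P ⟶ Q) (z : Γ(P, u ⁻¹ᵁ (f ⁻¹ᵁ U))),
      Q.presheaf.map (homOfLE h₁).op (k.app _ z) = k.app W (P.presheaf.map (homOfLE h₁).op z) :=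
    fun k z => (Nrm6.hom_app_res k _ z).symm
  refine (k1 (a ≫ b ≫ c ≫ d) x).trans ?_
  refine Eq.trans (b := d.app W (c.app W (b.app W (a.app W
    (((Scheme.Modules.pullback u).obj ((Scheme.Modules.pullback f).obj M)).presheaf.map
      (homOfLE h₁).op x))))) rfl ?_
  have e1 : a.app W (((Scheme.Modules.pullback u).obj ((Scheme.Modules.pullback f).obj M)).presheaf.map
      (homOfLE h₁).op x) = ((Scheme.Modules.pullback (u ≫ f)).obj M).presheaf.map (homOfLE h₁).op
        (OmegaSh.pullSect (u ≫ f) M U t) :=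
    (Nrm6.hom_app_res a _ x).trans (congrArg _ (pullbackComp_hom_pullSect u f M U t))
  have e2 : c.app W (((Scheme.Modules.pullback (f' ≫ v)).obj M).presheaf.map (homOfLE h₂).op
      (OmegaSh.pullSect (f' ≫ v) M U t)) =
      ((Scheme.Modules.pullback f').obj ((Scheme.Modules.pullback v).obj M)).presheaf.map (homOfLE h₂).op
        (OmegaSh.pullSect f' _ _ (OmegaSh.pullSect v M U t)) :=
    (Nrm6.hom_app_res c _ _).trans (congrArg _ (pullbackComp_inv_pullSect f' v M U t))
  refine (congrArg (fun y => d.app W (c.app W (b.app W y))) e1).trans ?_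
  refine (congrArg (fun y => d.app W (c.app W y)) (pullbackCongr_pullSect w M U t W h₁ h₂)).trans ?_
  refine (congrArg (fun y => d.app W y) e2).trans ((Nrm6.hom_app_res d _ _).trans ?_)
  congr 1
  rw [← idealPull_pullSect v _ _ h U t]
  exact (congrArg (fun k => Scheme.Modules.Hom.app k (v ⁻¹ᵁ U) (OmegaSh.pullSect v M U t))
    ((Scheme.Modules.pullbackPushforwardAdjunction f').unit.naturality (idealPull v _ _ h))).symm

/-- Maps out of a twofold pullback agree if they agree on pulled back sections. -/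
theorem pullback_pullback_hom_ext {A B C : Scheme.{u}} (a : A ⟶ B) (b : B ⟶ C) {M : C.Modules}
    {N : A.Modules} {α β : (Scheme.Modules.pullback a).obj ((Scheme.Modules.pullback b).obj M) ⟶ N}
    (hh : ∀ (U : C.Opens) (t : Γ(M, U)),
      α.app (a ⁻¹ᵁ (b ⁻¹ᵁ U)) (OmegaSh.pullSect a _ _ (OmegaSh.pullSect b M U t)) =
        β.app (a ⁻¹ᵁ (b ⁻¹ᵁ U)) (OmegaSh.pullSect a _ _ (OmegaSh.pullSect b M U t))) :
    α = β := by
  apply ((Scheme.Modules.pullbackPushforwardAdjunction a).homEquiv _ N).injective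
  refine pullback_hom_ext b fun U t => ?_
  rw [← OmegaLib.pullSect_adjoint, ← OmegaLib.pullSect_adjoint]
  exact hh U t

theorem eq_grHom (φ : (Scheme.Modules.pullback u).obj (PrinPart.grMod f n) ⟶ PrinPart.grMod f' n)
    (hφ : PrinPart.IsGrMap f' f v u n φ) : φ = grHom f v u f' w n h := by
  refine pullback_pullback_hom_ext u f fun U t => ?_
  have e : u ⁻¹ᵁ (f ⁻¹ᵁ U) = f' ⁻¹ᵁ (v ⁻¹ᵁ U) := by
    rw [← Scheme.Hom.comp_preimage, w, Scheme.Hom.comp_preimage]
  have h1 := hφ.2 U t (idealLift v _ _ h U t) (idealSect_idealLift v _ _ h U t) _ le_rfl e.le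
  have h2 := grHom_value f v u f' w n h U t _ le_rfl e.le
  have hid : ∀ z, (PrinPart.grMod f' n).presheaf.map (homOfLE (le_refl (u ⁻¹ᵁ (f ⁻¹ᵁ U)))).op z = z :=
    fun z => congr($((PrinPart.grMod f' n).presheaf.map_id _) z)
  rw [hid] at h1 h2
  exact h1.trans h2.symm

end Gr

section BaseChange

variable {Y X Y' X' : Scheme.{u}} (f : Y ⟶ X) [IsClosedImmersion f] (v : X' ⟶ X) (u : Y' ⟶ Y)
  (f' : Y' ⟶ X') (hsq : IsPullback u f' f v) (n : ℕ)
  (φ : (Scheme.Modules.pullback u).obj (PrinPart.grMod f n) ⟶ PrinPart.grMod f' n)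
  (hφ : PrinPart.IsGrMap f' f v u n φ)

include hsq

theorem ker_pow_comap : f'.ker ^ n = (f.ker ^ n).comap v := by
  rw [FComplLib.comap_pow, FComplLib.ker_of_isPullback hsq.flip]

include hφ

theorem epi_grMap : Epi φ := by
  rw [eq_grHom f v u f' hsq.w n (ker_pow_comap f v u f' hsq n).ge φ hφ, grHom]
  haveI := epi_idealPull v (f.ker ^ n) (ker_pow_comap f v u f' hsq n)
  haveI : (Scheme.Modules.pullback f').PreservesEpimorphisms :=
    Functor.preservesEpimorphisms_of_adjunction (Scheme.Modules.pullbackPushforwardAdjunction f')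
  have h4 : Epi ((Scheme.Modules.pullback f').map
      (idealPull v (f.ker ^ n) (f'.ker ^ n) (ker_pow_comap f v u f' hsq n).ge)) :=
    Functor.map_epi _ _
  exact epi_comp' (((Scheme.Modules.pullbackComp u f).app (ClSub.idealMod (f.ker ^ n))).isIso_hom.epi_of_iso) (epi_comp' (((Scheme.Modules.pullbackCongr hsq.w).app (ClSub.idealMod (f.ker ^ n))).isIso_hom.epi_of_iso) (epi_comp' (((Scheme.Modules.pullbackComp f' v).app (ClSub.idealMod (f.ker ^ n))).isIso_inv.epi_of_iso) h4))

theorem isIso_grMap [Flat v] : IsIso φ := by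
  rw [eq_grHom f v u f' hsq.w n (ker_pow_comap f v u f' hsq n).ge φ hφ, grHom]
  haveI := isIso_idealPull v (f.ker ^ n) (ker_pow_comap f v u f' hsq n)
  have h4 : IsIso ((Scheme.Modules.pullback f').map
      (idealPull v (f.ker ^ n) (f'.ker ^ n) (ker_pow_comap f v u f' hsq n).ge)) :=
    Functor.map_isIso _ _
  exact IsIso.comp_isIso' ((Scheme.Modules.pullbackComp u f).app (ClSub.idealMod (f.ker ^ n))).isIso_hom (IsIso.comp_isIso' ((Scheme.Modules.pullbackCongr hsq.w).app (ClSub.idealMod (f.ker ^ n))).isIso_hom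
    (IsIso.comp_isIso' ((Scheme.Modules.pullbackComp f' v).app (ClSub.idealMod (f.ker ^ n))).isIso_inv h4))

end BaseChange

end Groth.Agent.Nrm34
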