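import Groth.Agent.Synt29.ConormalSeq
import Groth.Agent.FlatLocus.Basic
import Mathlib.AlgebraicGeometry.Morphisms.FlatMono
import Mathlib.AlgebraicGeometry.Morphisms.Immersion
import Mathlib.RingTheory.Nakayama

/-!
# Immersions that are open immersions near a point
-/

set_option autoImplicit false
set_option linter.style.haveILetI false

universe u

open CategoryTheory CategoryTheory.Limits AlgebraicGeometry TopologicalSpace Opposite

namespace Groth.Agent.Nrm34

open Synt29.OmegaStalk Synt29.ConormalStalk Synt29.ConormalSeq Groth.Agent.KFlatLib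

variable {Y X : Scheme.{u}}

theorem exists_affine_surjective_app (j : Y ⟶ X) [IsImmersion j] (y : Y) :
    ∃ V : X.Opens, IsAffineOpen V ∧ j y ∈ V ∧ IsAffineOpen (j ⁻¹ᵁ V) ∧
      Function.Surjective (j.app V) := by
  let W := j.coborderRange
  have hjy : j y ∈ W := by
    have h := (j.liftCoborder y).2
    rwa [show (j.liftCoborder y).1 = j y from congr($(j.liftCoborder_ι) y)] at h
  obtain ⟨V, hV, hyV, hVW⟩ := exists_isAffineOpen_mem_and_subset (x := j y) (U := W) hjy
  have key : ∀ (k : Y ⟶ X) (i : Y ⟶ W.toScheme) [IsClosedImmersion i], i ≫ W.ι = k →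
      IsAffineOpen (k ⁻¹ᵁ V) ∧ Function.Surjective (k.app V) := by
    intro k i _ hk
    subst hk
    have hV' : IsAffineOpen (W.ι ⁻¹ᵁ V) := hV.preimage_of_isOpenImmersion W.ι (by
      rw [Scheme.Opens.opensRange_ι]; exact hVW)
    refine ⟨hV'.preimage i, ?_⟩
    haveI := Scheme.Hom.isIso_app W.ι V (by rw [Scheme.Opens.opensRange_ι]; exact hVW)
    rw [Scheme.Hom.comp_app]
    exact (i.app_surjective _ hV').comp (ConcreteCategory.bijective_of_isIso (W.ι.app V)).2
  exact ⟨V, hV, hyV, key j j.liftCoborder j.liftCoborder_ι⟩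

theorem fg_ker_stalkMap (j : Y ⟶ X) [IsImmersion j] [LocallyOfFinitePresentation j] (y : Y) :
    (RingHom.ker (j.stalkMap y).hom).FG := by
  obtain ⟨V, hV, hyV, hU, hsurj⟩ := exists_affine_surjective_app j y
  have hfp : (j.app V).hom.FinitePresentation := by
    rw [Scheme.Hom.app_eq_appLE]
    exact j.finitePresentation_appLE hV hU le_rfl
  have hker : (RingHom.ker (j.app V).hom).FG := by
    letI := (j.app V).hom.toAlgebra
    haveI : Algebra.FinitePresentation Γ(X, V) Γ(Y, j ⁻¹ᵁ V) := hfp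
    exact Algebra.FinitePresentation.ker_fG_of_surjective (Algebra.ofId _ _) hsurj
  let g := X.presheaf.germ V (j y) hyV
  suffices h : RingHom.ker (j.stalkMap y).hom = (RingHom.ker (j.app V).hom).map g.hom by
    rw [h]; exact Ideal.FG.map hker _
  refine le_antisymm (fun a ha => ?_) (Ideal.map_le_iff_le_comap.2 fun a ha => ?_)
  swap
  · show j.stalkMap y (g a) = 0
    rw [show g a = X.presheaf.germ V (j y) hyV a from rfl, Scheme.Hom.germ_stalkMap_apply,
      show j.app V a = 0 from ha, map_zero]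
  letI := X.presheaf.algebra_section_stalk (U := V) ⟨j y, hyV⟩
  haveI := hV.isLocalization_stalk ⟨j y, hyV⟩
  obtain ⟨⟨b, s⟩, hs⟩ :=
    IsLocalization.surj (hV.primeIdealOf ⟨j y, hyV⟩).asIdeal.primeCompl a
  have hu : IsUnit (g (s : Γ(X, V))) := IsLocalization.map_units (X.presheaf.stalk (j y)) s
  have hb : Y.presheaf.germ (j ⁻¹ᵁ V) y hyV (j.app V b) = 0 := by
    rw [← Scheme.Hom.germ_stalkMap_apply j V y hyV]
    refine (congrArg (j.stalkMap y) hs.symm).trans ?_
    exact (map_mul (j.stalkMap y).hom a _).trans (by rw [show (j.stalkMap y).hom a = 0 from ha, zero_mul])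
  letI := Y.presheaf.algebra_section_stalk (U := j ⁻¹ᵁ V) ⟨y, hyV⟩
  haveI := hU.isLocalization_stalk ⟨y, hyV⟩
  obtain ⟨⟨t, ht⟩, htb⟩ :=
    (IsLocalization.map_eq_zero_iff (hU.primeIdealOf ⟨y, hyV⟩).asIdeal.primeCompl
      (Y.presheaf.stalk y) (j.app V b)).1 hb
  obtain ⟨t', rfl⟩ := hsurj t
  have htu : IsUnit (g t') := by
    refine isUnit_of_map_unit (j.stalkMap y).hom _ ?_
    show IsUnit (j.stalkMap y (X.presheaf.germ V (j y) hyV t'))
    rw [Scheme.Hom.germ_stalkMap_apply]
    exact IsLocalization.map_units (Y.presheaf.stalk y)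
      (⟨j.app V t', ht⟩ : (hU.primeIdealOf ⟨y, hyV⟩).asIdeal.primeCompl)
  have hmem : a * g (s : Γ(X, V)) * g t' ∈ (RingHom.ker (j.app V).hom).map g.hom := by
    rw [show a * g (s : Γ(X, V)) = g b from hs, mul_comm, ← map_mul]
    refine Ideal.mem_map_of_mem _ ?_
    show j.app V (t' * b) = 0
    rw [map_mul]
    exact htb
  rw [mul_assoc] at hmem
  exact (Ideal.mul_unit_mem_iff_mem _ (hu.mul htu)).1 hmem

theorem exists_isOpenImmersion_nhd_iff (j : Y ⟶ X) [IsImmersion j] [QuasiCompact j]
    [LocallyOfFinitePresentation j] (y : Y) :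
    (∃ U : Y.Opens, y ∈ U ∧ IsOpenImmersion (U.ι ≫ j)) ↔
      Subsingleton ((Omega.conormal j).presheaf.stalk y) := by
  constructor
  · rintro ⟨U, hyU, hU⟩
    have hbij : Function.Bijective (j.stalkMap y) := by
      let z : U.toScheme := ⟨y, hyU⟩
      have h : IsIso ((U.ι ≫ j).stalkMap z) := inferInstance
      rw [Scheme.Hom.stalkMap_comp] at h
      have h2 : IsIso (j.stalkMap (U.ι z)) :=
        @IsIso.of_isIso_comp_right _ _ _ _ _ _ (U.ι.stalkMap z) _ h
      exact ConcreteCategory.bijective_of_isIso (j.stalkMap (U.ι z))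
    suffices ∀ z : St (Omega.conormal j) y, z = 0 from
      ⟨fun a b => (this a).trans (this b).symm⟩
    intro z
    obtain ⟨V, hy, k, rfl⟩ := exists_conormalSect j y z
    refine conormalSect_eq_zero j hy k ?_
    have h0 : X.presheaf.germ V (j y) hy (OmegaSh.idealSect j.ker V k) = 0 :=
      hbij.1 ((rep_mem j ⟨V, hy, k, rfl, rfl⟩).trans (map_zero _).symm)
    rw [h0]
    exact zero_mem _
  · intro hsub
    let K := RingHom.ker (j.stalkMap y).hom
    have hK2 : K ≤ K • K := fun a ha => by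
      obtain ⟨m, hm⟩ := exists_rep j (RingHom.mem_ker.mp ha)
      have h0 : unit1 j y m = 0 := by
        have e : ∀ a b : St (Omega.conormal j) y, a = b := fun a b =>
          @Subsingleton.elim _ hsub a b
        exact (ConcreteCategory.bijective_of_isIso ((stalkPullbackIso j y).app (I j)).inv).1 (e _ _)
      rw [Ideal.smul_eq_mul, ← pow_two]
      exact mem_sq_of_unit1_eq_zero j (j.stalkMap_surjective y) hm h0
    have hbot : K = ⊥ :=
      Submodule.eq_bot_of_le_smul_of_le_jacobson_bot K K (fg_ker_stalkMap j y) hK2 (by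
        rw [IsLocalRing.jacobson_eq_maximalIdeal (⊥ : Ideal _) bot_ne_top]
        exact IsLocalRing.le_maximalIdeal (RingHom.ker_ne_top _))
    have hbij : Function.Bijective (j.stalkMap y).hom :=
      ⟨(RingHom.injective_iff_ker_eq_bot _).2 hbot, j.stalkMap_surjective y⟩
    let U : Y.Opens := ⟨_, Groth.Agent.FlatLocus.isOpen_flat_locus j⟩
    refine ⟨U, RingHom.Flat.of_bijective hbij, ?_⟩
    haveI : Flat (U.ι ≫ j) := Flat.of_stalkMap _ fun z => by
      rw [Scheme.Hom.stalkMap_comp]
      exact RingHom.Flat.comp z.2 (Flat.stalkMap U.ι z)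
    exact IsOpenImmersion.of_flat_of_mono _

end Groth.Agent.Nrm34
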