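import Groth.Agent.PPSheaf.Gen
import Groth.Agent.DiffOps.Linearize

/-!
# Differential operators on schemes: linearity, alternating sums, the chart criterion
-/

set_option autoImplicit false
set_option linter.style.haveILetI false

universe u

open CategoryTheory CategoryTheory.Limits AlgebraicGeometry TopologicalSpace Opposite
open scoped TensorProduct

namespace Groth.Agent.Nrm34

variable {X S : Scheme.{u}} (f : X ⟶ S)

section

variable {F G : X.Modules} (D : F.presheaf ⟶ G.presheaf)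

/-- `D` is linear for the functions coming from `S`. -/
def SLinear : Prop :=
  ∀ (V : S.Opens) (s : Γ(S, V)) (U : X.Opens) (hU : U ≤ f ⁻¹ᵁ V) (t : Γ(F, U)),
    D.app (op U) (X.presheaf.map (homOfLE hU).op (f.app V s) • t) =
      X.presheaf.map (homOfLE hU).op (f.app V s) • D.app (op U) t

/-- The alternating sum of `D` for a family of functions. -/
noncomputable def altD {n : ℕ} (U : X.Opens) (a : Fin n → Γ(X, U)) (t : Γ(F, U)) : Γ(G, U) :=
  ∑ H : Finset (Fin n), ((-1 : ℤ) ^ H.card) • ((∏ i ∈ H, a i) • D.app (op U) ((∏ i ∈ Hᶜ, a i) • t))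

/-- All alternating sums of length `n + 1` of `D` vanish. -/
def AltZero (n : ℕ) : Prop :=
  ∀ (U : X.Opens) (a : Fin (n + 1) → Γ(X, U)) (t : Γ(F, U)), altD D U a t = 0

theorem D_res {U V : X.Opens} (h : V ≤ U) (t : Γ(F, U)) :
    D.app (op V) (F.presheaf.map (homOfLE h).op t) = G.presheaf.map (homOfLE h).op (D.app (op U) t) :=
  congr($(D.naturality (homOfLE h).op) t)

theorem altD_res {n : ℕ} {U V : X.Opens} (h : V ≤ U) (a : Fin n → Γ(X, U)) (t : Γ(F, U)) :
    G.presheaf.map (homOfLE h).op (altD D U a t) =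
      altD D V (fun i => X.presheaf.map (homOfLE h).op (a i)) (F.presheaf.map (homOfLE h).op t) := by
  simp only [altD, map_sum, map_zsmul, Scheme.Modules.map_smul, ← D_res, map_prod]

/-- It suffices to check alternating sums on affine charts. -/
theorem altZero_of_affine {n : ℕ}
    (h : ∀ (V : S.affineOpens) (U : X.affineOpens) (_ : U.1 ≤ f ⁻¹ᵁ V.1)
      (a : Fin (n + 1) → Γ(X, U.1)) (t : Γ(F, U.1)), altD D U.1 a t = 0) :
    AltZero D n := by
  intro U a t
  refine TopCat.Presheaf.section_ext ⟨G.presheaf, G.isSheaf⟩ U _ _ fun x hx => ?_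
  obtain ⟨V, W, hxW, e⟩ := PPSheaf.exists_affine_pair f x
  obtain ⟨_, ⟨W', hW', rfl⟩, hxW', hle⟩ := X.isBasis_affineOpens.exists_subset_of_mem_open
    (show x ∈ (W.1 ⊓ U : X.Opens) from ⟨hxW, hx⟩) (W.1 ⊓ U).isOpen
  have hWU : W' ≤ U := fun y hy => (hle hy).2
  show G.presheaf.germ U x hx _ = G.presheaf.germ U x hx 0
  rw [map_zero, ← G.presheaf.germ_res_apply (homOfLE hWU) x hxW', altD_res,
    h V ⟨W', hW'⟩ (fun y hy => e (hle hy).1), map_zero]

variable {f D}

theorem SLinear.algebraMap_smul (hD : SLinear f D) {V : S.Opens} {U : X.Opens} (e : U ≤ f ⁻¹ᵁ V)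
    (s : Γ(S, V)) (t : Γ(F, U)) :
    D.app (op U) (f.appLE V U e s • t) = f.appLE V U e s • D.app (op U) t :=
  hD V s U e t

theorem SLinear.comp {H : X.Modules} (hD : SLinear f D) {D' : G.presheaf ⟶ H.presheaf}
    (hD' : SLinear f D') : SLinear f (D ≫ D') := fun V s U hU t => by
  show D'.app (op U) (D.app (op U) _) = _ • D'.app (op U) (D.app (op U) t)
  rw [hD V s U hU t, hD' V s U hU]

end

/-- The operator on a chart, as a linear map over the base ring. -/
noncomputable def opLin {F G : X.Modules} {D : F.presheaf ⟶ G.presheaf} (hD : SLinear f D)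
    {V : S.Opens} {U : X.Opens} (e : U ≤ f ⁻¹ᵁ V) :
    letI := Module.compHom Γ(F, U) (f.appLE V U e).hom
    letI := Module.compHom Γ(G, U) (f.appLE V U e).hom
    Γ(F, U) →ₗ[Γ(S, V)] Γ(G, U) :=
  letI := Module.compHom Γ(F, U) (f.appLE V U e).hom
  letI := Module.compHom Γ(G, U) (f.appLE V U e).hom
  { toFun := fun t => D.app (op U) t
    map_add' := fun _ _ => map_add _ _ _
    map_smul' := fun s t => hD.algebraMap_smul e s t }

/-- `b ↦ D (b • m)` on a chart. -/
noncomputable def opAt {F G : X.Modules} {D : F.presheaf ⟶ G.presheaf} (hD : SLinear f D)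
    {V : S.Opens} {U : X.Opens} (e : U ≤ f ⁻¹ᵁ V) (m : Γ(F, U)) :
    letI := (f.appLE V U e).hom.toAlgebra
    letI := Module.compHom Γ(G, U) (f.appLE V U e).hom
    Γ(X, U) →ₗ[Γ(S, V)] Γ(G, U) :=
  letI := (f.appLE V U e).hom.toAlgebra
  letI := Module.compHom Γ(G, U) (f.appLE V U e).hom
  { toFun := fun b => D.app (op U) (b • m)
    map_add' := fun _ _ => by rw [add_smul, map_add]
    map_smul' := fun s b => by
      rw [Algebra.smul_def, mul_smul]
      exact hD.algebraMap_smul e s _ }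

section Dop

variable {f}

theorem altSum_univ {A B M N : Type u} [CommRing A] [CommRing B] [Algebra A B] [AddCommGroup M]
    [Module A M] [Module B M] [IsScalarTower A B M] [AddCommGroup N] [Module A N] [Module B N]
    [IsScalarTower A B N] (D : M →ₗ[A] N) {n : ℕ} (b : Fin n → B) (t : M) :
    DiffOps.altSum D Finset.univ b t =
      ∑ H : Finset (Fin n), ((-1 : ℤ) ^ H.card) • ((∏ i ∈ H, b i) • D ((∏ i ∈ Hᶜ, b i) • t)) := by
  simp only [DiffOps.altSum, Finset.powerset_univ, Finset.compl_eq_univ_sdiff]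

variable {F G : X.Modules} {D : F.presheaf ⟶ G.presheaf} (hD : SLinear f D)

/-- On a chart the alternating sums vanish iff the ring-level operator has order `≤ n`. -/
theorem isDiffOpLE_opLin_iff {V : S.Opens} {U : X.Opens} (e : U ≤ f ⁻¹ᵁ V) (n : ℕ) :
    letI := (f.appLE V U e).hom.toAlgebra
    letI := Module.compHom Γ(F, U) (f.appLE V U e).hom
    letI := Module.compHom Γ(G, U) (f.appLE V U e).hom
    haveI : IsScalarTower Γ(S, V) Γ(X, U) Γ(F, U) := IsScalarTower.of_algebraMap_smul fun _ _ => rfl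
    haveI : IsScalarTower Γ(S, V) Γ(X, U) Γ(G, U) := IsScalarTower.of_algebraMap_smul fun _ _ => rfl
    Diff16.IsDiffOpLE Γ(S, V) Γ(X, U) Γ(F, U) Γ(G, U) n (opLin f hD e) ↔
      ∀ (a : Fin (n + 1) → Γ(X, U)) (t : Γ(F, U)), altD D U a t = 0 := by
  letI := (f.appLE V U e).hom.toAlgebra
  letI := Module.compHom Γ(F, U) (f.appLE V U e).hom
  letI := Module.compHom Γ(G, U) (f.appLE V U e).hom
  haveI : IsScalarTower Γ(S, V) Γ(X, U) Γ(F, U) := IsScalarTower.of_algebraMap_smul fun _ _ => rfl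
  haveI : IsScalarTower Γ(S, V) Γ(X, U) Γ(G, U) := IsScalarTower.of_algebraMap_smul fun _ _ => rfl
  rw [DiffOps.isDiffOpLE_iff_altSum]
  refine forall_congr' fun a => forall_congr' fun t => ?_
  rw [altSum_univ]
  rfl

/-- On a chart the alternating sums vanish iff all linearisations kill `I ^ (n + 1)`. -/
theorem altD_eq_zero_iff {V : S.Opens} {U : X.Opens} (e : U ≤ f ⁻¹ᵁ V) (n : ℕ) :
    letI := (f.appLE V U e).hom.toAlgebra
    letI := Module.compHom Γ(G, U) (f.appLE V U e).hom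
    haveI : IsScalarTower Γ(S, V) Γ(X, U) Γ(G, U) := IsScalarTower.of_algebraMap_smul fun _ _ => rfl
    (∀ (a : Fin (n + 1) → Γ(X, U)) (t : Γ(F, U)), altD D U a t = 0) ↔
      ∀ (m : Γ(F, U)), ∀ x ∈ KaehlerDifferential.ideal Γ(S, V) Γ(X, U) ^ (n + 1),
        Diff16.linearize Γ(S, V) Γ(X, U) Γ(X, U) Γ(G, U) (opAt f hD e m) x = 0 := by
  letI := (f.appLE V U e).hom.toAlgebra
  letI := Module.compHom Γ(G, U) (f.appLE V U e).hom
  haveI : IsScalarTower Γ(S, V) Γ(X, U) Γ(G, U) := IsScalarTower.of_algebraMap_smul fun _ _ => rfl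
  have key : ∀ (a : Fin (n + 1) → Γ(X, U)) (m : Γ(F, U)) (c : Γ(X, U)),
      DiffOps.altSum (opAt f hD e m) Finset.univ a c = altD D U a (c • m) := fun a m c => by
    rw [altSum_univ]
    refine Finset.sum_congr rfl fun H _ => ?_
    show _ • (_ • D.app (op U) (((∏ i ∈ Hᶜ, a i) * c) • m)) = _
    rw [mul_smul]
  constructor
  · intro h m
    rw [← DiffOps.isDiffOpLE_iff_linearize, DiffOps.isDiffOpLE_iff_altSum]
    intro a c
    rw [key]
    exact h a _
  · intro h a t
    have h2 := (DiffOps.isDiffOpLE_iff_altSum n _).1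
      ((DiffOps.isDiffOpLE_iff_linearize n _).2 (h t)) a 1
    rwa [key, one_smul] at h2

end Dop

/-- Composites: orders add. -/
theorem AltZero.comp {F G H : X.Modules} {D : F.presheaf ⟶ G.presheaf}
    {D' : G.presheaf ⟶ H.presheaf} (hD : SLinear f D) (hD' : SLinear f D') {n n' : ℕ}
    (h : AltZero D n) (h' : AltZero D' n') : AltZero (D ≫ D') (n + n') := by
  refine altZero_of_affine f _ fun V U e => ?_
  letI := (f.appLE V.1 U.1 e).hom.toAlgebra
  letI := Module.compHom Γ(F, U.1) (f.appLE V.1 U.1 e).hom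
  letI := Module.compHom Γ(G, U.1) (f.appLE V.1 U.1 e).hom
  letI := Module.compHom Γ(H, U.1) (f.appLE V.1 U.1 e).hom
  haveI : IsScalarTower Γ(S, V.1) Γ(X, U.1) Γ(F, U.1) := IsScalarTower.of_algebraMap_smul fun _ _ => rfl
  haveI : IsScalarTower Γ(S, V.1) Γ(X, U.1) Γ(G, U.1) := IsScalarTower.of_algebraMap_smul fun _ _ => rfl
  haveI : IsScalarTower Γ(S, V.1) Γ(X, U.1) Γ(H, U.1) := IsScalarTower.of_algebraMap_smul fun _ _ => rfl
  have h1 := (isDiffOpLE_opLin_iff hD e n).2 (h U.1)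
  have h2 := (isDiffOpLE_opLin_iff hD' e n').2 (h' U.1)
  exact (isDiffOpLE_opLin_iff (hD.comp hD') e (n + n')).1 (DiffOps.isDiffOpLE_comp h1 h2)

section Forward

variable (n : ℕ)

theorem pr_appLE_base {V : S.Opens} {U : X.Opens} (e : U ≤ f ⁻¹ᵁ V) (s : Γ(S, V)) :
    (PrinPart.pr2 f n).appLE U (PrinPart.pr1 f n ⁻¹ᵁ U) (PrinPart.preimage_pr1 f n U).le
        (f.appLE V U e s) =
      (PrinPart.pr1 f n).app U (f.appLE V U e s) := by
  rw [Scheme.Hom.app_eq_appLE, ← CommRingCat.comp_apply, ← CommRingCat.comp_apply,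
    Scheme.Hom.appLE_comp_appLE, Scheme.Hom.appLE_comp_appLE]
  exact PPSheaf.appLE_congr_hom (PrinPart.pr1_comp f n).symm V _ _ s

variable (F : X.Modules)

/-- Sections of `P^n(F)` over `U` are the sections of `pr₂^* F` over `pr₁⁻¹ U`. -/
noncomputable abbrev toM (U : X.Opens) :
    Γ(PrinPart.PMod f n F, U) →+
      Γ((Scheme.Modules.pullback (PrinPart.pr2 f n)).obj F, PrinPart.pr1 f n ⁻¹ᵁ U) :=
  { toFun := fun σ => σ, map_zero' := rfl, map_add' := fun _ _ => rfl }

theorem toM_smul (U : X.Opens) (a : Γ(X, U)) (σ : Γ(PrinPart.PMod f n F, U)) :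
    toM f n F U (a • σ) = (PrinPart.pr1 f n).app U a • toM f n F U σ := rfl

theorem toM_dP_smul (U : X.Opens) (b : Γ(X, U)) (t : Γ(F, U)) :
    toM f n F U (PrinPart.dP f n F U (b • t)) =
      (PrinPart.pr2 f n).appLE U (PrinPart.pr1 f n ⁻¹ᵁ U) (PrinPart.preimage_pr1 f n U).le b •
        toM f n F U (PrinPart.dP f n F U t) := by
  show PrinPart.dP f n F U (b • t) = _
  rw [PrinPart.dP_apply, OmegaSh.pullSect_smul, Scheme.Modules.map_smul]
  rfl

theorem sLinear_dPHom : SLinear f (PrinPart.dPHom f n F) := fun V s U hU t => by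
  show toM f n F U (PrinPart.dP f n F U (f.appLE V U hU s • t)) =
    toM f n F U (f.appLE V U hU s • PrinPart.dP f n F U t)
  rw [toM_dP_smul, toM_smul, pr_appLE_base]

theorem altZero_dPHom : AltZero (PrinPart.dPHom f n F) n := by
  refine altZero_of_affine f _ fun V U e => ?_
  letI := (f.appLE V.1 U.1 e).hom.toAlgebra
  letI := Module.compHom Γ(PrinPart.PMod f n F, U.1) (f.appLE V.1 U.1 e).hom
  haveI : IsScalarTower Γ(S, V.1) Γ(X, U.1) Γ(PrinPart.PMod f n F, U.1) :=
    IsScalarTower.of_algebraMap_smul fun _ _ => rfl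
  refine (altD_eq_zero_iff (sLinear_dPHom f n F) e n).2 fun m x hx => ?_
  obtain ⟨-, ψ, -, hker, hl, hr⟩ := PPSheaf.exists_chart f V U e n rfl
  have key : ∀ x, toM f n F U.1 (Diff16.linearize Γ(S, V.1) Γ(X, U.1) Γ(X, U.1)
      Γ(PrinPart.PMod f n F, U.1) (opAt f (sLinear_dPHom f n F) e m) x) =
        ψ x • toM f n F U.1 (PrinPart.dP f n F U.1 m) := by
    intro x
    induction x using TensorProduct.induction_on with
    | zero => rw [map_zero, map_zero, map_zero, zero_smul]
    | add x y hx hy => rw [map_add, map_add, hx, hy, map_add, add_smul]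
    | tmul a b =>
      rw [DiffOps.linearize_tmul, toM_smul,
        show a ⊗ₜ[Γ(S, V.1)] b = (a ⊗ₜ 1) * (1 ⊗ₜ b) by simp, map_mul, hl, hr, mul_smul,
        ← toM_dP_smul]
      rfl
  have h0 : ψ x = 0 := RingHom.mem_ker.1 (hker ▸ hx)
  have h1 := key x
  rw [h0, zero_smul] at h1
  exact h1

variable {f n F}

theorem SLinear.of_isDiffOpLE {G : X.Modules} {D : F.presheaf ⟶ G.presheaf}
    (hD : PrinPart.IsDiffOpLE f F G n D) : SLinear f D := by
  obtain ⟨u, hu⟩ := hD
  intro V s U hU t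
  rw [hu, hu, ← u.app_smul]
  exact congrArg (u.app U) (sLinear_dPHom f n F V s U hU t)

theorem AltZero.of_isDiffOpLE {G : X.Modules} {D : F.presheaf ⟶ G.presheaf}
    (hD : PrinPart.IsDiffOpLE f F G n D) : AltZero D n := by
  obtain ⟨u, hu⟩ := hD
  intro U a t
  have h := congrArg (u.app U) (altZero_dPHom f n F U a t)
  rw [map_zero] at h
  rw [← h]
  simp only [altD, map_sum, map_zsmul, u.app_smul, hu]
  rfl

end Forward

end Groth.Agent.Nrm34
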