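import Groth.Agent.Nrm34.Sections
import Groth.Agent.Nrm34.GrCoh
import Groth.Agent.QCoh.PullbackBC
import Groth.Agent.PPLib.BaseChange
import Groth.Agent.FComplLib.AffMod
import Mathlib.AlgebraicGeometry.PullbackCarrier

/-!
# Base change of the sheaf of principal parts
-/

set_option autoImplicit false
set_option linter.style.haveILetI false

universe u

open CategoryTheory CategoryTheory.Limits AlgebraicGeometry TopologicalSpace Opposite
open scoped TensorProduct

namespace Groth.Agent.Nrm34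

theorem isIso_of_bijective_cover {Z : Scheme.{u}} {M N : Z.Modules} (hM : Coh.IsQCoh M)
    (hN : Coh.IsQCoh N) (φ : M ⟶ N) (W : Z → Z.Opens)
    (hW : ∀ z, IsAffineOpen (W z)) (hcov : ∀ z, z ∈ W z)
    (h : ∀ z, Function.Bijective (φ.app (W z))) : IsIso φ := by
  have hz : ∀ {P : Z.Modules}, Coh.IsQCoh P → (∀ z (s : Γ(P, W z)), s = 0) → IsZero P :=
    fun hP hP0 => QCoh.isZero_of_cover hP W hW (fun z => ⟨z, hcov z⟩)
      fun z => subsingleton_of_forall_eq 0 (hP0 z)
  have : Mono φ := by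
    refine Preadditive.mono_of_kernel_zero ?_
    refine IsZero.eq_of_src (hz (QCoh.isQCoh_kernel hM hN φ) fun z s => ?_) _ _
    refine QCoh.app_injective (kernel.ι φ) (W z) ((h z).1 ?_)
    have := congrArg (fun ψ => Scheme.Modules.Hom.app ψ (W z) s) (kernel.condition φ)
    rw [map_zero, map_zero]
    exact this
  have : Epi φ := by
    refine Preadditive.epi_of_cokernel_zero ?_
    refine IsZero.eq_of_tgt (hz (QCoh.isQCoh_cokernel hM hN φ) fun z s => ?_) _ _
    obtain ⟨y, rfl⟩ := QCoh.app_surjective_of_epi hN (QCoh.isQCoh_cokernel hM hN φ)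
      (cokernel.π φ) (hW z) s
    obtain ⟨w, rfl⟩ := (h z).2 y
    exact congrArg (fun ψ => Scheme.Modules.Hom.app ψ (W z) w) (cokernel.condition φ)
  exact isIso_of_mono_of_epi φ

/-- Over a chart the sections of `P^n` are the principal parts of the algebra. -/
theorem exists_chartP {X S : Scheme.{u}} (f : X ⟶ S) (n : ℕ) (V : S.affineOpens) (U : X.affineOpens)
    (e : U.1 ≤ f ⁻¹ᵁ V.1) [Algebra Γ(S, V.1) Γ(X, U.1)]
    (halg : algebraMap Γ(S, V.1) Γ(X, U.1) = (f.appLE V.1 U.1 e).hom) :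
    ∃ E : PP16.P n Γ(S, V.1) Γ(X, U.1) ≃ₗ[Γ(X, U.1)] Γ(PrinPart.P f n, U.1),
      ∀ b, E (PP16.dn n Γ(S, V.1) Γ(X, U.1) b) = PrinPart.dn f n U.1 b := by
  obtain ⟨-, ψ, hsurj, hker, hl, hr⟩ := PPSheaf.exists_chart f V U e n halg
  let χ := Ideal.Quotient.lift (KaehlerDifferential.ideal Γ(S, V.1) Γ(X, U.1) ^ (n + 1)) ψ
    (fun a ha => RingHom.mem_ker.1 (hker ▸ ha))
  have hχ : ∀ t, χ (Ideal.Quotient.mk _ t) = ψ t := fun t => Ideal.Quotient.lift_mk _ _ _
  have hχb : Function.Bijective χ := by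
    refine ⟨(injective_iff_map_eq_zero χ).2 fun p hp => ?_, fun s => ?_⟩
    · obtain ⟨t, rfl⟩ := Ideal.Quotient.mk_surjective p
      rw [hχ, ← RingHom.mem_ker, hker] at hp
      exact Ideal.Quotient.eq_zero_iff_mem.2 hp
    · obtain ⟨t, rfl⟩ := hsurj s
      exact ⟨_, hχ t⟩
  let F := AddEquiv.ofBijective (sectToFun f n U.1) (sectToFun_bijective f n U.1)
  let G := (AddEquiv.ofBijective χ.toAddMonoidHom hχb).trans F.symm
  have hG : ∀ p, sectToFun f n U.1 (G p) = χ p := fun p => F.apply_symm_apply (χ p)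
  refine ⟨{ G with map_smul' := fun b p => ?_ }, fun b => ?_⟩
  · apply (sectToFun_bijective f n U.1).1
    show sectToFun f n U.1 (G (b • p)) = sectToFun f n U.1 (b • G p)
    rw [sectToFun_smul, hG, hG, Algebra.smul_def, map_mul,
      show algebraMap Γ(X, U.1) (PP16.P n Γ(S, V.1) Γ(X, U.1)) b =
        Ideal.Quotient.mk _ (b ⊗ₜ 1) from rfl, hχ, hl]
  · apply (sectToFun_bijective f n U.1).1
    show sectToFun f n U.1 (G _) = _
    rw [hG, sectToFun_dn]
    exact (hχ _).trans (hr b)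

section Ring

attribute [local instance] PP16.mapAlgebra PP16.isScalarTower_mapAlgebra

variable {A B A' B' : Type u} [CommRing A] [CommRing B] [Algebra A B] [CommRing A'] [CommRing B']
  [Algebra A' B'] [Algebra A A'] [Algebra B B'] [Algebra A B'] [IsScalarTower A A' B']
  [IsScalarTower A B B'] [Algebra.IsPushout A B A' B'] (n : ℕ)

theorem exists_pushoutEquivP :
    ∃ ρ : B' ⊗[B] PP16.P n A B ≃ₗ[B'] PP16.P n A' B',
      ∀ c b, ρ (c ⊗ₜ PP16.dn n A B b) = c • PP16.dn n A' B' (algebraMap B B' b) := by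
  haveI := (PPLib.isPushout_P n A B A' B').symm
  refine ⟨(Algebra.IsPushout.equiv B B' (PP16.P n A B) (PP16.P n A' B')).toLinearEquiv, fun c b => ?_⟩
  show Algebra.IsPushout.equiv B B' (PP16.P n A B) (PP16.P n A' B') (c ⊗ₜ PP16.dn n A B b) = _
  rw [Algebra.IsPushout.equiv_tmul, Algebra.smul_def]
  congr 1
  exact PP16.map_dn n A B A' B' b

theorem bijective_of_gen {M N N' : Type u} [AddCommGroup M] [Module B M] [AddCommGroup N] [Module B N]
    [Module B' N] [IsScalarTower B B' N] [AddCommGroup N'] [Module B' N'] {l : M →ₗ[B] N}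
    (hl : IsBaseChange B' l) (E : PP16.P n A B ≃ₗ[B] M) (E' : PP16.P n A' B' ≃ₗ[B'] N')
    (F : N →ₗ[B'] N')
    (h : ∀ b, F (l (E (PP16.dn n A B b))) = E' (PP16.dn n A' B' (algebraMap B B' b))) :
    Function.Bijective F := by
  obtain ⟨ρ, hρ⟩ := exists_pushoutEquivP (A := A) (B := B) (A' := A') (B' := B') n
  let τ : B' ⊗[B] PP16.P n A B ≃ₗ[B'] N :=
    TensorProduct.AlgebraTensorModule.congr (LinearEquiv.refl B' B') E ≪≫ₗ hl.equiv
  have key : ∀ t, F (τ t) = E' (ρ t) := by
    intro t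
    induction t using TensorProduct.induction_on with
    | zero => simp only [map_zero]
    | add a b ha hb => simp only [map_add, ha, hb]
    | tmul c p =>
      have hp : p ∈ Submodule.span B (Set.range (PP16.dn n A B)) := by
        rw [PPLib.span_range_dn]; trivial
      induction hp using Submodule.span_induction generalizing c with
      | zero => simp only [TensorProduct.tmul_zero, map_zero]
      | add a b _ _ ha hb => simp only [TensorProduct.tmul_add, map_add, ha, hb]
      | smul r a _ ha => rw [← TensorProduct.smul_tmul]; exact ha _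
      | mem a ha =>
        obtain ⟨b, rfl⟩ := ha
        rw [hρ, map_smul, ← h, ← map_smul]
        congr 1
  have hfun : ⇑F = fun x => E' (ρ (τ.symm x)) := funext fun x => by
    rw [← key, τ.apply_symm_apply]
  rw [hfun]
  exact E'.bijective.comp (ρ.bijective.comp τ.symm.bijective)

end Ring

theorem isIso_pMap_baseChange {X S X' S' : Scheme.{u}} (f : X ⟶ S) (g : S' ⟶ S)
    (u : X' ⟶ X) (f' : X' ⟶ S') (hsq : IsPullback u f' f g) (n : ℕ)
    (φ : (Scheme.Modules.pullback u).obj (PrinPart.P f n) ⟶ PrinPart.P f' n)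
    (hφ : PrinPart.IsPMap f f' u n φ) : IsIso φ := by
  have hchart : ∀ z : X', ∃ (W : X'.Opens), IsAffineOpen W ∧ z ∈ W ∧ Function.Bijective (φ.app W) := by
    intro z
    obtain ⟨V, U, hzU, hUV⟩ := PPSheaf.exists_affine_pair f (u z)
    have hw : g (f' z) = f (u z) := congr($(hsq.w.symm).base z)
    obtain ⟨_, ⟨O, hO, rfl⟩, hzO, hOV⟩ := S'.isBasis_affineOpens.exists_subset_of_mem_open
      (show f' z ∈ g ⁻¹ᵁ V.1 from (hw.symm ▸ hUV hzU : g (f' z) ∈ V.1)) (g ⁻¹ᵁ V.1).isOpen
    obtain ⟨V, hV⟩ := V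
    obtain ⟨U, hU⟩ := U
    let W : X'.Opens := u ⁻¹ᵁ U ⊓ f' ⁻¹ᵁ O
    have hW : IsAffineOpen W := by
      haveI : IsAffine _ := hV
      haveI : IsAffine _ := hO
      haveI : IsAffine _ := hU
      exact .of_isIso (Scheme.Hom.isPullback_resLE hsq hOV hUV (UY := W) rfl).isoPullback.hom
    have hpo := (isIso_pushoutSection_iff hsq hOV hUV (UY := W) rfl).mp
      (isIso_pushoutSection_of_isAffineOpen hsq hOV hUV rfl hV hO hU)
    letI : Algebra Γ(S, V) Γ(X, U) := (f.appLE V U hUV).hom.toAlgebra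
    letI : Algebra Γ(S, V) Γ(S', O) := (g.appLE V O hOV).hom.toAlgebra
    letI : Algebra Γ(X, U) Γ(X', W) := (u.appLE U W inf_le_left).hom.toAlgebra
    letI : Algebra Γ(S', O) Γ(X', W) := (f'.appLE O W inf_le_right).hom.toAlgebra
    letI : Algebra Γ(S, V) Γ(X', W) := (f.appLE V U hUV ≫ u.appLE U W inf_le_left).hom.toAlgebra
    haveI : IsScalarTower Γ(S, V) Γ(X, U) Γ(X', W) := .of_algebraMap_eq fun _ => rfl
    haveI : IsScalarTower Γ(S, V) Γ(S', O) Γ(X', W) := .of_algebraMap_eq fun r => congr($(hpo.w).hom r)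
    haveI : Algebra.IsPushout Γ(S, V) Γ(X, U) Γ(S', O) Γ(X', W) :=
      CommRingCat.isPushout_iff_isPushout.mp hpo
    obtain ⟨E, hE⟩ := exists_chartP f n ⟨V, hV⟩ ⟨U, hU⟩ hUV rfl
    obtain ⟨E', hE'⟩ := exists_chartP f' n ⟨O, hO⟩ ⟨W, hW⟩ inf_le_right rfl
    let M := PrinPart.P f n
    let N := (Scheme.Modules.pullback u).obj M
    letI : Module Γ(X, U) Γ(N, W) := Module.compHom _ (u.appLE U W inf_le_left).hom
    haveI : IsScalarTower Γ(X, U) Γ(X', W) Γ(N, W) := .of_algebraMap_smul fun _ _ => rfl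
    let l : Γ(M, U) →ₗ[Γ(X, U)] Γ(N, W) :=
      { toFun := QCoh.pullSec u M inf_le_left
        map_add' := QCoh.pullSec_add u M inf_le_left
        map_smul' := fun r m => QCoh.pullSec_smul u M inf_le_left r m }
    have hb : IsBaseChange Γ(X', W) l :=
      QCoh.isBaseChange_pullback hU u hW
        (isQCoh_PMod f n _ QCoh.isQCoh_structureModule) inf_le_left (fun _ => rfl) l fun _ => rfl
    have hdn : ∀ b, φ.app W (l (PrinPart.dn f n U b)) =
        PrinPart.dn f' n W (u.appLE U W inf_le_left b) := by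
      intro b
      show φ.app W (N.presheaf.map (homOfLE inf_le_left).op
        (OmegaSh.pullSect u M U (PrinPart.dn f n U b))) = _
      rw [Nrm6.hom_app_res, hφ U b]
      exact (PrinPart.dP_map f' n _ inf_le_left _).symm
    let F : Γ(N, W) →ₗ[Γ(X', W)] Γ(PrinPart.P f' n, W) :=
      { toFun := fun x => φ.app W x
        map_add' := fun _ _ => map_add _ _ _
        map_smul' := fun r x => φ.app_smul r x }
    refine ⟨W, hW, ⟨hzU, hzO⟩, bijective_of_gen n hb E E' F fun b => ?_⟩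
    rw [hE, hE']
    exact hdn b
  choose W hW hzW hbij using hchart
  exact isIso_of_bijective_cover
    (QCoh.isQCoh_pullback u (isQCoh_PMod f n _ QCoh.isQCoh_structureModule))
    (isQCoh_PMod f' n _ QCoh.isQCoh_structureModule) φ W hW hzW hbij

end Groth.Agent.Nrm34
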