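import Groth.Agent.Nrm34.GrMap
import Groth.Agent.QCoh.PullbackBC
import Groth.Agent.QCoh.Stalk
import Groth.Agent.GrFlat5.AtPrime
import Mathlib.AlgebraicGeometry.PullbackCarrier
import Mathlib.RingTheory.IsTensorProduct
import Mathlib.LinearAlgebra.TensorProduct.Quotient

/-!
# Base change of the graded pieces of a section
-/

set_option autoImplicit false
set_option linter.style.haveILetI false

universe u

open CategoryTheory CategoryTheory.Limits AlgebraicGeometry TopologicalSpace Opposite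
open scoped TensorProduct

namespace Groth.Agent.Nrm34

section Algebra

variable {A : Type u} (A' : Type u) {B : Type u} (B' : Type u) {B'' : Type u}
  [CommRing A] [CommRing A'] [CommRing B] [CommRing B'] [CommRing B'']
  [Algebra A B] [Algebra A A'] [Algebra A B'] [Algebra B B'] [Algebra A' B']
  [IsScalarTower A B B'] [IsScalarTower A A' B'] [Algebra.IsPushout A A' B B']
  [Algebra B B''] [Algebra B' B''] [IsScalarTower B B' B''] [Module.Flat B' B'']

set_option synthInstance.maxHeartbeats 100000 in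
set_option maxHeartbeats 800000 in
include A' B' in
theorem lTensor_subtype_injective_of_flat_quotient (I : Ideal B) [Module.Flat A (B ⧸ I)] :
    Function.Injective ((I.subtype).lTensor B'') := by
  have h1 : Function.Injective ((I.subtype.restrictScalars A).lTensor A') :=
    LinearMap.lTensor_injective_of_exact_of_flat ((Submodule.mkQ I).restrictScalars A)
      (Submodule.mkQ_surjective I) (I.subtype.restrictScalars A) Subtype.val_injective
      (LinearMap.exact_subtype_mkQ I) A'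
  have h2 : Function.Injective ((I.subtype).baseChange B') := by
    let eI := Algebra.IsPushout.cancelBaseChange A A' B B' I
    let eB := Algebra.IsPushout.cancelBaseChange A A' B B' B
    have key : ∀ w, (I.subtype).baseChange B' (eI.symm w) =
        eB.symm ((I.subtype.restrictScalars A).lTensor A' w) := by
      intro w
      induction w using TensorProduct.induction_on with
      | zero => simp only [map_zero]
      | add a b ha hb => simp only [map_add, ha, hb]
      | tmul a x =>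
        rw [Algebra.IsPushout.cancelBaseChange_symm_tmul, LinearMap.baseChange_tmul,
          LinearMap.lTensor_tmul, Algebra.IsPushout.cancelBaseChange_symm_tmul]
        rfl
    intro a b hab
    obtain ⟨a, rfl⟩ := eI.symm.surjective a
    obtain ⟨b, rfl⟩ := eI.symm.surjective b
    rw [key, key] at hab
    exact congrArg _ (h1 (eB.symm.injective hab))
  have h3 : Function.Injective (((I.subtype).baseChange B').lTensor B'') :=
    Module.Flat.lTensor_preserves_injective_linearMap _ h2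
  let c (M : Type u) [AddCommGroup M] [Module B M] :=
    TensorProduct.AlgebraTensorModule.cancelBaseChange B B' B' B'' M
  have key2 : ∀ z, (c B) (((I.subtype).baseChange B').lTensor B'' z) =
      (I.subtype).lTensor B'' ((c I) z) := by
    intro z
    induction z using TensorProduct.induction_on with
    | zero => simp
    | add a b ha hb => simp only [map_add, ha, hb]
    | tmul x w =>
      induction w using TensorProduct.induction_on with
      | zero => simp
      | add a b ha hb => simp only [TensorProduct.tmul_add, map_add, ha, hb]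
      | tmul b m => simp [c]
  intro a b hab
  obtain ⟨a, rfl⟩ := (c I).surjective a
  obtain ⟨b, rfl⟩ := (c I).surjective b
  rw [← key2, ← key2] at hab
  exact congrArg _ (h3 ((c B).injective hab))

end Algebra

section Succ

variable {A B : Type u} [CommRing A] [CommRing B] [Algebra A B]

/-- `B / I ^ (k + 1)` is flat if `B / I ^ k` and `I ^ k / I ^ (k + 1)` are. -/
theorem flat_quotient_pow_succ (I : Ideal B) (k : ℕ) [Module.Flat A (B ⧸ I ^ k)]
    [Module.Flat A (↥(I ^ k) ⧸ (I • ⊤ : Submodule B ↥(I ^ k)))] :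
    Module.Flat A (B ⧸ I ^ (k + 1)) := by
  let P : Submodule B B := I ^ k
  have hle : (I • ⊤ : Submodule B P) ≤ Submodule.comap P.subtype (I ^ (k + 1) : Ideal B) := by
    refine Submodule.smul_le.2 fun r hr x _ => ?_
    show r * x.1 ∈ I ^ (k + 1)
    rw [pow_succ']
    exact Ideal.mul_mem_mul hr x.2
  let i : (P ⧸ (I • ⊤ : Submodule B P)) →ₗ[B] B ⧸ I ^ (k + 1) := Submodule.mapQ _ _ P.subtype hle
  let p : (B ⧸ I ^ (k + 1)) →ₗ[B] B ⧸ I ^ k := Submodule.factor (Ideal.pow_le_pow_right k.le_succ)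
  have hi : ∀ w : P, i (Submodule.Quotient.mk w) = Submodule.Quotient.mk w.1 := fun w =>
    Submodule.mapQ_apply _ _ _ w
  have hp : ∀ x : B, p (Submodule.Quotient.mk x) = Submodule.Quotient.mk x := fun _ => rfl
  have hinj : Function.Injective i := by
    refine (injective_iff_map_eq_zero i).2 fun z hz => ?_
    obtain ⟨z, rfl⟩ := Submodule.Quotient.mk_surjective _ z
    rw [hi, Submodule.Quotient.mk_eq_zero] at hz
    rw [Submodule.Quotient.mk_eq_zero, Submodule.mem_smul_top_iff]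
    rwa [pow_succ', ← smul_eq_mul] at hz
  have hex : Function.Exact i p := by
    intro z
    obtain ⟨z, rfl⟩ := Submodule.Quotient.mk_surjective _ z
    rw [hp, Submodule.Quotient.mk_eq_zero]
    constructor
    · intro hz
      exact ⟨Submodule.Quotient.mk ⟨z, hz⟩, hi ⟨z, hz⟩⟩
    · rintro ⟨w, hw⟩
      obtain ⟨w, rfl⟩ := Submodule.Quotient.mk_surjective _ w
      rw [hi, Submodule.Quotient.eq] at hw
      have h1 : w.1 - z ∈ I ^ k := Ideal.pow_le_pow_right k.le_succ hw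
      have h2 := (I ^ k).sub_mem w.2 h1
      rwa [sub_sub_cancel] at h2
  have hpsurj : Function.Surjective p := Submodule.factor_surjective _
  exact GrFlat5.flat_of_exact (f := i.restrictScalars A) (g := p.restrictScalars A) hinj hex hpsurj

end Succ

section Mono

variable {X Y X' Y' : Scheme.{u}} {g : X ⟶ Y} {u : Y' ⟶ Y} {v : X' ⟶ X} {g' : X' ⟶ Y'}
  (hsq : IsPullback v g' g u) (J : X.IdealSheafData) (J' : X'.IdealSheafData) (h : J.comap v ≤ J')

include hsq

theorem mono_idealPull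
    (H : ∀ (V : Y.affineOpens) (U : X.affineOpens) (e : U.1 ≤ g ⁻¹ᵁ V.1),
      (letI := (g.appLE V.1 U.1 e).hom.toAlgebra; Module.Flat Γ(Y, V.1) (Γ(X, U.1) ⧸ J.ideal U))) :
    Mono (idealPull v J J' h) := by
  let good : Set X'.Opens := {W | IsAffineOpen W ∧ ∃ (V : Y.affineOpens) (U : X.affineOpens)
    (O : Y'.affineOpens), U.1 ≤ g ⁻¹ᵁ V.1 ∧ O.1 ≤ u ⁻¹ᵁ V.1 ∧ W ≤ v ⁻¹ᵁ U.1 ⊓ g' ⁻¹ᵁ O.1}
  have hb : Opens.IsBasis good := by
    refine Opens.isBasis_iff_nbhd.2 fun {U₀ x} hx => ?_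
    obtain ⟨_, ⟨V, hV, rfl⟩, hxV, -⟩ :=
      Y.isBasis_affineOpens.exists_subset_of_mem_open (Set.mem_univ (g (v x))) isOpen_univ
    obtain ⟨_, ⟨U, hU, rfl⟩, hxU, hUV⟩ := X.isBasis_affineOpens.exists_subset_of_mem_open
      (show v x ∈ g ⁻¹ᵁ V from hxV) (g ⁻¹ᵁ V).isOpen
    have hw : u (g' x) = g (v x) := congr($(hsq.w.symm).base x)
    obtain ⟨_, ⟨O, hO, rfl⟩, hxO, hOV⟩ := Y'.isBasis_affineOpens.exists_subset_of_mem_open
      (show g' x ∈ u ⁻¹ᵁ V from (hw.symm ▸ hxV : u (g' x) ∈ V)) (u ⁻¹ᵁ V).isOpen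
    obtain ⟨_, ⟨W, hW, rfl⟩, hxW, hWle⟩ := X'.isBasis_affineOpens.exists_subset_of_mem_open
      (show x ∈ (U₀ ⊓ (v ⁻¹ᵁ U ⊓ g' ⁻¹ᵁ O) : X'.Opens) from ⟨hx, hxU, hxO⟩)
      (U₀ ⊓ (v ⁻¹ᵁ U ⊓ g' ⁻¹ᵁ O)).isOpen
    exact ⟨W, ⟨hW, ⟨V, hV⟩, ⟨U, hU⟩, ⟨O, hO⟩, hUV, hOV, fun y hy => (hWle hy).2⟩, hxW,
      fun y hy => (hWle hy).1⟩
  refine QCoh.mono_of_isBasis _ hb ?_
  rintro W' ⟨hW', ⟨V, hV⟩, ⟨U, hU⟩, ⟨O, hO⟩, hUV, hOV, hle⟩
  let W : X'.Opens := v ⁻¹ᵁ U ⊓ g' ⁻¹ᵁ O
  have hW : IsAffineOpen W := by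
    haveI : IsAffine _ := hV
    haveI : IsAffine _ := hO
    haveI : IsAffine _ := hU
    exact .of_isIso (Scheme.Hom.isPullback_resLE hsq hOV hUV (UY := W) rfl).isoPullback.hom
  have hpo := (isIso_pushoutSection_iff hsq hOV hUV (UY := W) rfl).mp
    (isIso_pushoutSection_of_isAffineOpen hsq hOV hUV rfl hV hO hU)
  letI : Algebra Γ(Y, V) Γ(X, U) := (g.appLE V U hUV).hom.toAlgebra
  letI : Algebra Γ(Y, V) Γ(Y', O) := (u.appLE V O hOV).hom.toAlgebra
  letI : Algebra Γ(X, U) Γ(X', W) := (v.appLE U W inf_le_left).hom.toAlgebra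
  letI : Algebra Γ(Y', O) Γ(X', W) := (g'.appLE O W inf_le_right).hom.toAlgebra
  letI : Algebra Γ(Y, V) Γ(X', W) := (g.appLE V U hUV ≫ v.appLE U W inf_le_left).hom.toAlgebra
  haveI : IsScalarTower Γ(Y, V) Γ(X, U) Γ(X', W) := .of_algebraMap_eq fun _ => rfl
  haveI : IsScalarTower Γ(Y, V) Γ(Y', O) Γ(X', W) := .of_algebraMap_eq fun r => congr($(hpo.w).hom r)
  haveI : Algebra.IsPushout Γ(Y, V) Γ(Y', O) Γ(X, U) Γ(X', W) :=
    CommRingCat.isPushout_iff_isPushout.mp hpo.flip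
  have hWU : W' ≤ v ⁻¹ᵁ U := hle.trans inf_le_left
  letI : Algebra Γ(X', W) Γ(X', W') := (X'.presheaf.map (homOfLE hle).op).hom.toAlgebra
  letI : Algebra Γ(X, U) Γ(X', W') := (v.appLE U W' hWU).hom.toAlgebra
  haveI : IsScalarTower Γ(X, U) Γ(X', W) Γ(X', W') := .of_algebraMap_eq fun r => by
    show v.appLE U W' hWU r = X'.presheaf.map (homOfLE hle).op (v.appLE U W inf_le_left r)
    rw [← CommRingCat.comp_apply, Scheme.Hom.appLE_map]
  haveI : Module.Flat Γ(X', W) Γ(X', W') := by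
    have h1 := HasRingHomProperty.appLE @Flat (𝟙 X') inferInstance ⟨W, hW⟩ ⟨W', hW'⟩ hle
    rw [show (𝟙 X' : X' ⟶ X').appLE W W' hle = X'.presheaf.map (homOfLE hle).op by
      simp only [Scheme.Hom.appLE, Scheme.Hom.id_app]
      exact Category.id_comp _] at h1
    exact h1
  let I := J.ideal ⟨U, hU⟩
  haveI : Module.Flat Γ(Y, V) (Γ(X, U) ⧸ I) := H ⟨V, hV⟩ ⟨U, hU⟩ hUV
  have hinj := lTensor_subtype_injective_of_flat_quotient (A := Γ(Y, V)) Γ(Y', O)
    Γ(X', W) (B'' := Γ(X', W')) I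
  let M := ClSub.idealMod J
  let N := (Scheme.Modules.pullback v).obj M
  letI : Module Γ(X, U) Γ(N, W') := Module.compHom _ (v.appLE U W' hWU).hom
  haveI : IsScalarTower Γ(X, U) Γ(X', W') Γ(N, W') := .of_algebraMap_smul fun _ _ => rfl
  let l : Γ(M, U) →ₗ[Γ(X, U)] Γ(N, W') :=
    { toFun := QCoh.pullSec v M hWU
      map_add' := QCoh.pullSec_add v M hWU
      map_smul' := fun r m => QCoh.pullSec_smul v M hWU r m }
  have hb' : IsBaseChange Γ(X', W') l :=
    QCoh.isBaseChange_pullback hU v hW' (isQCoh_idealMod J) hWU (fun _ => rfl) l fun _ => rfl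
  let E := idealModEquiv J ⟨U, hU⟩
  let τ : Γ(X', W') ⊗[Γ(X, U)] I ≃ₗ[Γ(X', W')] Γ(N, W') :=
    TensorProduct.AlgebraTensorModule.congr (LinearEquiv.refl Γ(X', W') Γ(X', W')) E.symm ≪≫ₗ hb'.equiv
  have key : ∀ z, OmegaSh.idealSect J' W' ((idealPull v J J' h).app W' (τ z)) =
      TensorProduct.AlgebraTensorModule.rid Γ(X, U) Γ(X', W') Γ(X', W') ((I.subtype).lTensor Γ(X', W') z) := by
    intro z
    induction z using TensorProduct.induction_on with
    | zero => simp
    | add a b ha hb => simp only [map_add, ha, hb]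
    | tmul c x =>
      have h1 : (idealPull v J J' h).app W' (l (E.symm x)) =
          (ClSub.idealMod J').presheaf.map (homOfLE hWU).op (idealLift v J J' h U (E.symm x)) := by
        show (idealPull v J J' h).app W' (N.presheaf.map (homOfLE hWU).op
          (OmegaSh.pullSect v M U (E.symm x))) = _
        rw [Nrm6.hom_app_res, idealPull_pullSect]
      have hx : OmegaSh.idealSect J U (E.symm x) = x.1 :=
        congrArg Subtype.val (E.apply_symm_apply x)
      show OmegaSh.idealSect J' W' ((idealPull v J J' h).app W' (hb'.equiv (c ⊗ₜ E.symm x))) = _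
      rw [IsBaseChange.equiv_tmul, Scheme.Modules.Hom.app_smul, OmegaLib.idealSect_smul, h1,
        OmegaLib.idealSect_map, idealSect_idealLift, hx]
      show c * _ = (x.1 : Γ(X, U)) • c
      rw [Algebra.smul_def, mul_comm]
      rfl
  intro a b hab
  obtain ⟨a, rfl⟩ := τ.surjective a
  obtain ⟨b, rfl⟩ := τ.surjective b
  have := congrArg (OmegaSh.idealSect J' W') hab
  rw [key, key] at this
  exact congrArg τ (hinj ((LinearEquiv.injective _) this))

end Mono

section Section'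

variable {X Y : Scheme.{u}} (g : X ⟶ Y) (f : Y ⟶ X) [IsClosedImmersion f] (hf : f ≫ g = 𝟙 Y)

include hf

set_option maxHeartbeats 1600000 in
theorem flat_quotient_ker_pow (m : ℕ)
    (hflat : ∀ k, 1 ≤ k → k < m → FlatMod.IsFlat (PrinPart.grMod f k))
    (V : Y.affineOpens) (U : X.affineOpens) (e : U.1 ≤ g ⁻¹ᵁ V.1) {n : ℕ} (hn : n ≤ m) :
    letI := (g.appLE V.1 U.1 e).hom.toAlgebra
    Module.Flat Γ(Y, V.1) (Γ(X, U.1) ⧸ (f.ker ^ n).ideal U) := by
  letI := (g.appLE V.1 U.1 e).hom.toAlgebra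
  rw [Scheme.IdealSheafData.ideal_pow, Pi.pow_apply]
  let C := Γ(Y, f ⁻¹ᵁ U.1)
  have hW : IsAffineOpen (f ⁻¹ᵁ U.1) := U.2.preimage f
  have hWV : f ⁻¹ᵁ U.1 ≤ V.1 := by
    intro y hy
    have h1 : g (f y) = y := by rw [← Scheme.Hom.comp_apply, hf]; rfl
    have h2 : g (f y) ∈ V.1 := e hy
    rwa [h1] at h2
  letI : Algebra Γ(X, U.1) C := (f.appLE U.1 (f ⁻¹ᵁ U.1) le_rfl).hom.toAlgebra
  letI : Algebra Γ(Y, V.1) C := (g.appLE V.1 U.1 e ≫ f.appLE U.1 (f ⁻¹ᵁ U.1) le_rfl).hom.toAlgebra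
  haveI : IsScalarTower Γ(Y, V.1) Γ(X, U.1) C := .of_algebraMap_eq fun _ => rfl
  haveI : Module.Flat Γ(Y, V.1) C := by
    have h1 := HasRingHomProperty.appLE @Flat (f ≫ g) (hf ▸ inferInstance) V ⟨_, hW⟩
      (f.preimage_mono e)
    rw [← Scheme.Hom.appLE_comp_appLE f g V.1 U.1 (f ⁻¹ᵁ U.1) e le_rfl] at h1
    exact h1
  let I := f.ker.ideal U
  have hsurj : Function.Surjective (algebraMap Γ(X, U.1) C) := by
    show Function.Surjective (f.appLE U.1 (f ⁻¹ᵁ U.1) le_rfl)
    rw [← Scheme.Hom.app_eq_appLE]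
    exact f.app_surjective U.1 U.2
  have hI : RingHom.ker (algebraMap Γ(X, U.1) C) = I := by
    show RingHom.ker (f.appLE U.1 (f ⁻¹ᵁ U.1) le_rfl).hom = _
    rw [← Scheme.Hom.app_eq_appLE]
    exact (Scheme.Hom.ker_apply f U).symm
  let eC : (Γ(X, U.1) ⧸ I) ≃ₐ[Γ(X, U.1)] C :=
    (Ideal.quotientEquivAlgOfEq Γ(X, U.1) hI.symm).trans
      (Ideal.quotientKerAlgEquivOfSurjective (f := Algebra.ofId Γ(X, U.1) C) hsurj)
  induction n with
  | zero =>
    haveI : Subsingleton (Γ(X, U.1) ⧸ I ^ 0) := by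
      rw [pow_zero, Ideal.one_eq_top]; exact Submodule.Quotient.subsingleton_iff.mpr rfl
    infer_instance
  | succ k ih =>
    haveI := ih (k.le_succ.trans hn)
    rcases Nat.eq_zero_or_pos k with rfl | hk
    · rw [zero_add, pow_one]
      exact Module.Flat.of_linearEquiv (eC.toLinearEquiv.restrictScalars Γ(Y, V.1))
    let M := ClSub.idealMod (f.ker ^ k)
    let N := (Scheme.Modules.pullback f).obj M
    have hN : Coh.IsQCoh N := QCoh.isQCoh_pullback f (isQCoh_idealMod _)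
    letI : Module Γ(X, U.1) Γ(N, f ⁻¹ᵁ U.1) := Module.compHom _ (f.appLE U.1 (f ⁻¹ᵁ U.1) le_rfl).hom
    haveI : IsScalarTower Γ(X, U.1) C Γ(N, f ⁻¹ᵁ U.1) := .of_algebraMap_smul fun _ _ => rfl
    let l : Γ(M, U.1) →ₗ[Γ(X, U.1)] Γ(N, f ⁻¹ᵁ U.1) :=
      { toFun := QCoh.pullSec f M le_rfl
        map_add' := QCoh.pullSec_add f M le_rfl
        map_smul' := fun r m => QCoh.pullSec_smul f M le_rfl r m }
    have hb : IsBaseChange C l :=
      QCoh.isBaseChange_pullback U.2 f hW (isQCoh_idealMod _) le_rfl (fun _ => rfl) l fun _ => rfl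
    haveI : Module.Flat C Γ(N, f ⁻¹ᵁ U.1) :=
      (QCoh.flat_sections_iff hN hW).2 fun y _ => hflat k hk hn y
    haveI : Module.Flat C (C ⊗[Γ(X, U.1)] Γ(M, U.1)) := Module.Flat.of_linearEquiv hb.equiv
    haveI : Module.Flat Γ(Y, V.1) (C ⊗[Γ(X, U.1)] Γ(M, U.1)) := Module.Flat.trans _ C _
    let P : Submodule Γ(X, U.1) Γ(X, U.1) := I ^ k
    have hP : (f.ker ^ k).ideal U = I ^ k := by
      rw [Scheme.IdealSheafData.ideal_pow, Pi.pow_apply]
    let q : (P ⧸ (I • ⊤ : Submodule Γ(X, U.1) P)) ≃ₗ[Γ(X, U.1)] C ⊗[Γ(X, U.1)] Γ(M, U.1) :=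
      (TensorProduct.quotTensorEquivQuotSMul P I).symm ≪≫ₗ
        TensorProduct.congr eC.toLinearEquiv
          ((LinearEquiv.ofEq P ((f.ker ^ k).ideal U) hP.symm) ≪≫ₗ (idealModEquiv (f.ker ^ k) U).symm)
    haveI : Module.Flat Γ(Y, V.1) (P ⧸ (I • ⊤ : Submodule Γ(X, U.1) P)) :=
      Module.Flat.of_linearEquiv (q.restrictScalars Γ(Y, V.1))
    exact flat_quotient_pow_succ I k

theorem isPullback_section {X' Y' : Scheme.{u}} (u : Y' ⟶ Y) (v : X' ⟶ X) (g' : X' ⟶ Y')
    (hsq : IsPullback v g' g u) (f' : Y' ⟶ X') (hf' : f' ≫ g' = 𝟙 Y') (hf'v : f' ≫ v = u ≫ f) :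
    IsPullback u f' f v :=
  haveI : IsIso (f ≫ g) := hf ▸ inferInstance
  haveI : IsIso (f' ≫ g') := hf' ▸ inferInstance
  IsPullback.of_bot (IsPullback.of_vert_isIso (fst := u) (snd := f' ≫ g') (f := f ≫ g) (g := u)
    ⟨by rw [hf, hf', Category.comp_id, Category.id_comp]⟩) hf'v.symm hsq

theorem isIso_grMap_section {X' Y' : Scheme.{u}} (u : Y' ⟶ Y) (v : X' ⟶ X) (g' : X' ⟶ Y')
    (hsq : IsPullback v g' g u) (f' : Y' ⟶ X') (hf' : f' ≫ g' = 𝟙 Y') (hf'v : f' ≫ v = u ≫ f)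
    (n : ℕ) (hflat : ∀ k, 1 ≤ k → k < n → FlatMod.IsFlat (PrinPart.grMod f k))
    (φ : (Scheme.Modules.pullback u).obj (PrinPart.grMod f n) ⟶ PrinPart.grMod f' n)
    (hφ : PrinPart.IsGrMap f' f v u n φ) : IsIso φ := by
  have hs := isPullback_section g f hf u v g' hsq f' hf' hf'v
  have e := ker_pow_comap f v u f' hs n
  rw [eq_grHom f v u f' hs.w n e.ge φ hφ, grHom]
  haveI := mono_idealPull hsq (f.ker ^ n) (f'.ker ^ n) e.ge
    fun V U he => flat_quotient_ker_pow g f hf n hflat V U he le_rfl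
  haveI := epi_idealPull v (f.ker ^ n) e
  haveI : IsIso (idealPull v (f.ker ^ n) (f'.ker ^ n) e.ge) := isIso_of_mono_of_epi _
  have h4 : IsIso ((Scheme.Modules.pullback f').map (idealPull v (f.ker ^ n) (f'.ker ^ n) e.ge)) :=
    Functor.map_isIso _ _
  exact IsIso.comp_isIso' ((Scheme.Modules.pullbackComp u f).app _).isIso_hom
    (IsIso.comp_isIso' ((Scheme.Modules.pullbackCongr hs.w).app _).isIso_hom
      (IsIso.comp_isIso' ((Scheme.Modules.pullbackComp f' v).app _).isIso_inv h4))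

end Section'

end Groth.Agent.Nrm34
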