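import Groth.Agent.Nrm34.Oper

/-!
# The universal property of the sheaf of principal parts
-/

set_option autoImplicit false
set_option linter.style.haveILetI false

universe u

open CategoryTheory CategoryTheory.Limits AlgebraicGeometry TopologicalSpace Opposite
open scoped TensorProduct

namespace Groth.Agent.Nrm34

open Groth.Agent.Synt29.OmegaStalk

variable {X S : Scheme.{u}} (f : X ⟶ S) (n : ℕ)

/-- The projections as a map from `Γ(U) ⊗ Γ(U)`. -/
noncomputable def Phi (U : X.Opens) :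
    Γ(X, U) ⊗[ℤ] Γ(X, U) →+* Γ(PrinPart.nbhd f n, PrinPart.pr1 f n ⁻¹ᵁ U) :=
  (Algebra.TensorProduct.productMap ((PrinPart.pr1 f n).app U).hom.toIntAlgHom
    ((PrinPart.pr2 f n).appLE U (PrinPart.pr1 f n ⁻¹ᵁ U)
      (PrinPart.preimage_pr1 f n U).le).hom.toIntAlgHom).toRingHom

theorem Phi_tmul (U : X.Opens) (a b : Γ(X, U)) :
    Phi f n U (a ⊗ₜ b) = (PrinPart.pr1 f n).app U a *
      (PrinPart.pr2 f n).appLE U (PrinPart.pr1 f n ⁻¹ᵁ U) (PrinPart.preimage_pr1 f n U).le b :=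
  Algebra.TensorProduct.productMap_apply_tmul _ _ a b

variable {F G : X.Modules} (D : F.presheaf ⟶ G.presheaf)

/-- `a ⊗ b ↦ a • D (b • m)`. -/
noncomputable def Lam (U : X.Opens) (m : Γ(F, U)) : Γ(X, U) ⊗[ℤ] Γ(X, U) →+ Γ(G, U) :=
  TensorProduct.liftAddHom
    { toFun := fun a =>
        { toFun := fun b => a • D.app (op U) (b • m)
          map_zero' := by rw [zero_smul, map_zero, smul_zero]
          map_add' := fun b b' => by rw [add_smul, map_add, smul_add] }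
      map_zero' := by ext b; exact zero_smul _ _
      map_add' := fun a a' => by ext b; exact add_smul _ _ _ }
    (fun k a b => by
      show (k • a) • D.app (op U) (b • m) = a • D.app (op U) ((k • b) • m)
      rw [smul_assoc, smul_assoc, map_zsmul, smul_comm])

theorem Lam_tmul (U : X.Opens) (m : Γ(F, U)) (a b : Γ(X, U)) :
    Lam D U m (a ⊗ₜ b) = a • D.app (op U) (b • m) := rfl

theorem Lam_add (U : X.Opens) (m m' : Γ(F, U)) (τ : Γ(X, U) ⊗[ℤ] Γ(X, U)) :
    Lam D U (m + m') τ = Lam D U m τ + Lam D U m' τ := by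
  induction τ using TensorProduct.induction_on with
  | zero => simp only [map_zero, add_zero]
  | add a b ha hb => rw [map_add, map_add, map_add, ha, hb]; abel
  | tmul a b => simp only [Lam_tmul, smul_add, map_add]

theorem Lam_mul_right (U : X.Opens) (m : Γ(F, U)) (c : Γ(X, U)) (τ : Γ(X, U) ⊗[ℤ] Γ(X, U)) :
    Lam D U m (τ * (1 ⊗ₜ c)) = Lam D U (c • m) τ := by
  induction τ using TensorProduct.induction_on with
  | zero => simp only [zero_mul, map_zero]
  | add a b ha hb => rw [add_mul, map_add, map_add, ha, hb]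
  | tmul a b => rw [Algebra.TensorProduct.tmul_mul_tmul, Lam_tmul, Lam_tmul, mul_one, mul_smul]

theorem Lam_mul_left (U : X.Opens) (m : Γ(F, U)) (c : Γ(X, U)) (τ : Γ(X, U) ⊗[ℤ] Γ(X, U)) :
    Lam D U m ((c ⊗ₜ 1) * τ) = c • Lam D U m τ := by
  induction τ using TensorProduct.induction_on with
  | zero => simp only [mul_zero, map_zero, smul_zero]
  | add a b ha hb => rw [mul_add, map_add, map_add, ha, hb, smul_add]
  | tmul a b => rw [Algebra.TensorProduct.tmul_mul_tmul, Lam_tmul, Lam_tmul, one_mul, mul_smul]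

/-- Restriction of `Γ(U) ⊗ Γ(U)`. -/
noncomputable def resT {U V : X.Opens} (h : V ≤ U) :
    Γ(X, U) ⊗[ℤ] Γ(X, U) →+* Γ(X, V) ⊗[ℤ] Γ(X, V) :=
  (Algebra.TensorProduct.map (X.presheaf.map (homOfLE h).op).hom.toIntAlgHom
    (X.presheaf.map (homOfLE h).op).hom.toIntAlgHom).toRingHom

theorem Lam_res {U V : X.Opens} (h : V ≤ U) (m : Γ(F, U)) (τ : Γ(X, U) ⊗[ℤ] Γ(X, U)) :
    Lam D V (F.presheaf.map (homOfLE h).op m) (resT h τ) =
      G.presheaf.map (homOfLE h).op (Lam D U m τ) := by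
  induction τ using TensorProduct.induction_on with
  | zero => simp only [map_zero]
  | add a b ha hb => simp only [map_add, ha, hb]
  | tmul a b =>
    show X.presheaf.map (homOfLE h).op a • D.app (op V)
      (X.presheaf.map (homOfLE h).op b • F.presheaf.map (homOfLE h).op m) = _
    rw [← Scheme.Modules.map_smul, D_res, ← Scheme.Modules.map_smul]
    rfl

theorem Phi_res {U V : X.Opens} (h : V ≤ U) (τ : Γ(X, U) ⊗[ℤ] Γ(X, U)) :
    Phi f n V (resT h τ) = (PrinPart.nbhd f n).presheaf.map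
      (homOfLE ((PrinPart.pr1 f n).preimage_mono h)).op (Phi f n U τ) := by
  induction τ using TensorProduct.induction_on with
  | zero => simp only [map_zero]
  | add a b ha hb => simp only [map_add, ha, hb]
  | tmul a b =>
    show Phi f n V (X.presheaf.map (homOfLE h).op a ⊗ₜ X.presheaf.map (homOfLE h).op b) = _
    rw [Phi_tmul, Phi_tmul, map_mul, Scheme.Hom.app_eq_appLE, Scheme.Hom.app_eq_appLE]
    simp only [← CommRingCat.comp_apply, Scheme.Hom.map_appLE, Scheme.Hom.appLE_map]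

/-- A section of the neighbourhood vanishing near `z` vanishes over a small open of `X`. -/
theorem exists_res_eq_zero {U : X.Opens} (r : Γ(PrinPart.nbhd f n, PrinPart.pr1 f n ⁻¹ᵁ U))
    (z : PrinPart.nbhd f n) (hz : z ∈ PrinPart.pr1 f n ⁻¹ᵁ U)
    (hr : (PrinPart.nbhd f n).presheaf.germ _ z hz r = 0) :
    ∃ (V : X.Opens) (h : V ≤ U), z ∈ PrinPart.pr1 f n ⁻¹ᵁ V ∧
      (PrinPart.nbhd f n).presheaf.map (homOfLE ((PrinPart.pr1 f n).preimage_mono h)).op r = 0 := by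
  obtain ⟨W, hzW, i₁, i₂, hW⟩ := (PrinPart.nbhd f n).presheaf.germ_eq z hz hz r 0
    (hr.trans (map_zero _).symm)
  rw [map_zero] at hW
  have hp : ∀ y : X, PrinPart.pr1 f n (PrinPart.toNbhd f n y) = y := fun y => by
    rw [← Scheme.Hom.comp_apply, PrinPart.toNbhd_pr1]; rfl
  obtain ⟨y, rfl⟩ := PrinPart.toInfNbhd_surjective (PrinPart.diagCl f) n z
  let V := U ⊓ PrinPart.toNbhd f n ⁻¹ᵁ W
  have hle : PrinPart.pr1 f n ⁻¹ᵁ V ≤ W := by
    intro w hw
    obtain ⟨y', rfl⟩ := PrinPart.toInfNbhd_surjective (PrinPart.diagCl f) n w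
    have h2 : PrinPart.pr1 f n (PrinPart.toNbhd f n y') ∈ PrinPart.toNbhd f n ⁻¹ᵁ W := hw.2
    rw [hp] at h2
    exact h2
  refine ⟨V, inf_le_left, ⟨hz, ?_⟩, ?_⟩
  · show PrinPart.pr1 f n (PrinPart.toNbhd f n y) ∈ PrinPart.toNbhd f n ⁻¹ᵁ W
    rw [hp]; exact hzW
  · have h2 := congrArg ((PrinPart.nbhd f n).presheaf.map (homOfLE hle).op) hW
    rw [map_zero, ← CommRingCat.comp_apply, ← Functor.map_comp] at h2
    exact h2

variable {D} (hD : SLinear f D) (hA : AltZero D n)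

include hD hA in
/-- `Lam` only depends on the image in the neighbourhood. -/
theorem Lam_eq_zero {V : S.affineOpens} {U : X.affineOpens} (e : U.1 ≤ f ⁻¹ᵁ V.1) (m : Γ(F, U.1))
    (τ : Γ(X, U.1) ⊗[ℤ] Γ(X, U.1)) (h : Phi f n U.1 τ = 0) : Lam D U.1 m τ = 0 := by
  letI := (f.appLE V.1 U.1 e).hom.toAlgebra
  letI := Module.compHom Γ(G, U.1) (f.appLE V.1 U.1 e).hom
  haveI : IsScalarTower Γ(S, V.1) Γ(X, U.1) Γ(G, U.1) := IsScalarTower.of_algebraMap_smul fun _ _ => rfl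
  obtain ⟨-, ψ, -, hker, hl, hr⟩ := PPSheaf.exists_chart f V U e n rfl
  let q : Γ(X, U.1) ⊗[ℤ] Γ(X, U.1) →+* Γ(X, U.1) ⊗[Γ(S, V.1)] Γ(X, U.1) :=
    (Algebra.TensorProduct.productMap
      (Algebra.TensorProduct.includeLeftRingHom (R := Γ(S, V.1)) (A := Γ(X, U.1)) (B := Γ(X, U.1))).toIntAlgHom
      (Algebra.TensorProduct.includeRight (R := Γ(S, V.1)) (A := Γ(X, U.1))
        (B := Γ(X, U.1))).toRingHom.toIntAlgHom).toRingHom
  have hq : ∀ a b, q (a ⊗ₜ b) = a ⊗ₜ[Γ(S, V.1)] b := fun a b => by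
    show Algebra.TensorProduct.productMap _ _ (a ⊗ₜ b) = _
    rw [Algebra.TensorProduct.productMap_apply_tmul]
    show (a ⊗ₜ[Γ(S, V.1)] (1 : Γ(X, U.1))) * ((1 : Γ(X, U.1)) ⊗ₜ b) = _
    rw [Algebra.TensorProduct.tmul_mul_tmul, mul_one, one_mul]
  have h1 : ∀ t, ψ (q t) = Phi f n U.1 t := fun t => by
    induction t using TensorProduct.induction_on with
    | zero => simp only [map_zero]
    | add a b ha hb => simp only [map_add, ha, hb]
    | tmul a b =>
      rw [hq, Phi_tmul, show a ⊗ₜ[Γ(S, V.1)] b = (a ⊗ₜ 1) * (1 ⊗ₜ b) by simp, map_mul, hl, hr]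
  have h2 : ∀ t, Diff16.linearize Γ(S, V.1) Γ(X, U.1) Γ(X, U.1) Γ(G, U.1) (opAt f hD e m) (q t) =
      Lam D U.1 m t := fun t => by
    induction t using TensorProduct.induction_on with
    | zero => simp only [map_zero]
    | add a b ha hb => simp only [map_add, ha, hb]
    | tmul a b => rw [hq, DiffOps.linearize_tmul]; rfl
  rw [← h2]
  refine (altD_eq_zero_iff hD e n).1 (hA U.1) m _ ?_
  rw [← hker, RingHom.mem_ker, h1, h]

theorem mem2 {f : X ⟶ S} {n : ℕ} {z : PrinPart.nbhd f n} {U : X.Opens}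
    (hz : z ∈ PrinPart.pr1 f n ⁻¹ᵁ U) : PrinPart.pr2 f n z ∈ U :=
  (PrinPart.preimage_pr1 f n U).le hz

/-- `g` is a value at `(r, m)`. -/
def Rep (z : PrinPart.nbhd f n) (r : (PrinPart.nbhd f n).presheaf.stalk z)
    (m : St F (PrinPart.pr2 f n z)) (g : St G (PrinPart.pr2 f n z)) (D : F.presheaf ⟶ G.presheaf) :
    Prop :=
  ∃ (U : X.Opens) (hz : z ∈ PrinPart.pr1 f n ⁻¹ᵁ U) (τ : Γ(X, U) ⊗[ℤ] Γ(X, U)) (t : Γ(F, U)),
    (PrinPart.nbhd f n).presheaf.germ _ z hz (Phi f n U τ) = r ∧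
    gm F (mem2 hz) t = m ∧
    gm G (mem2 hz) (Lam D U t τ) = g

variable {f n} {z : PrinPart.nbhd f n} {r r' : (PrinPart.nbhd f n).presheaf.stalk z}
  {m m' : St F (PrinPart.pr2 f n z)} {g g' : St G (PrinPart.pr2 f n z)}

/-- A representation may be restricted. -/
theorem Rep.restrict {U : X.Opens} {hz : z ∈ PrinPart.pr1 f n ⁻¹ᵁ U}
    {τ : Γ(X, U) ⊗[ℤ] Γ(X, U)} {t : Γ(F, U)}
    (h1 : (PrinPart.nbhd f n).presheaf.germ _ z hz (Phi f n U τ) = r)
    (h2 : gm F (mem2 hz) t = m) (h3 : gm G (mem2 hz) (Lam D U t τ) = g) {U' : X.Opens} (h : U' ≤ U)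
    (hz' : z ∈ PrinPart.pr1 f n ⁻¹ᵁ U') :
    (PrinPart.nbhd f n).presheaf.germ _ z hz' (Phi f n U' (resT h τ)) = r ∧
    gm F (mem2 hz') (F.presheaf.map (homOfLE h).op t) = m ∧
    gm G (mem2 hz') (Lam D U' (F.presheaf.map (homOfLE h).op t) (resT h τ)) = g := by
  refine ⟨?_, ?_, ?_⟩
  · rw [Phi_res, TopCat.Presheaf.germ_res_apply]; exact h1
  · rw [gm_res]; exact h2
  · rw [Lam_res, gm_res]; exact h3

theorem exists_rep (r : (PrinPart.nbhd f n).presheaf.stalk z) (m : St F (PrinPart.pr2 f n z)) :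
    ∃ g, Rep f n z r m g D := by
  obtain ⟨W, hW, t, rfl⟩ := gm_surjective F m
  obtain ⟨τ, rfl⟩ : r ∈ PPSheaf.prodGerms f n z := PPSheaf.prodGerms_eq_top f n z ▸ Subring.mem_top r
  suffices key : ∃ (U : X.Opens) (hz : z ∈ PrinPart.pr1 f n ⁻¹ᵁ U) (τ' : Γ(X, U) ⊗[ℤ] Γ(X, U)),
      (PrinPart.nbhd f n).presheaf.germ _ z hz (Phi f n U τ') =
        Algebra.TensorProduct.productMap ((PrinPart.pr1 f n).stalkMap z).hom.toIntAlgHom
          ((PrinPart.pr2 f n).stalkMap z).hom.toIntAlgHom τ by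
    obtain ⟨U, hz, τ', h⟩ := key
    let U' := U ⊓ W
    have hz' : z ∈ PrinPart.pr1 f n ⁻¹ᵁ U' :=
      ⟨hz, show z ∈ PrinPart.pr1 f n ⁻¹ᵁ W from (PrinPart.preimage_pr1 f n W).ge hW⟩
    refine ⟨_, U', hz', resT inf_le_left τ', F.presheaf.map (homOfLE inf_le_right).op t, ?_, ?_, rfl⟩
    · rw [Phi_res, TopCat.Presheaf.germ_res_apply]; exact h
    · exact gm_res F (homOfLE inf_le_right) _ t
  induction τ using TensorProduct.induction_on with
  | zero => exact ⟨⊤, trivial, 0, by rw [map_zero, map_zero, map_zero]⟩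
  | add a b ha hb =>
    obtain ⟨U, hz, a', ha⟩ := ha
    obtain ⟨U', hz', b', hb⟩ := hb
    refine ⟨U ⊓ U', ⟨hz, hz'⟩, resT inf_le_left a' + resT inf_le_right b', ?_⟩
    rw [map_add, map_add, map_add, Phi_res, Phi_res]
    exact congrArg₂ (· + ·) (((PrinPart.nbhd f n).presheaf.germ_res_apply _ _ _ _).trans ha)
      (((PrinPart.nbhd f n).presheaf.germ_res_apply _ _ _ _).trans hb)
  | tmul a b =>
    obtain ⟨Va, ha, a, rfl⟩ := X.presheaf.exists_germ_eq a
    obtain ⟨Vb, hb, b, rfl⟩ := X.presheaf.exists_germ_eq b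
    have hz : z ∈ PrinPart.pr1 f n ⁻¹ᵁ (Va ⊓ Vb) :=
      ⟨ha, show z ∈ PrinPart.pr1 f n ⁻¹ᵁ Vb from (PrinPart.preimage_pr1 f n Vb).ge hb⟩
    refine ⟨Va ⊓ Vb, hz, X.presheaf.map (homOfLE inf_le_left).op a ⊗ₜ
      X.presheaf.map (homOfLE inf_le_right).op b, ?_⟩
    rw [Phi_tmul, map_mul, Algebra.TensorProduct.productMap_apply_tmul, Scheme.Hom.app_eq_appLE]
    refine congrArg₂ (· * ·) ?_ ?_
    · refine (PPSheaf.germ_appLE_stalkMap _ _ _ _ _ _ _).trans ?_
      exact congrArg _ (X.presheaf.germ_res_apply _ _ _ a)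
    · refine (PPSheaf.germ_appLE_stalkMap _ _ _ _ _ _ _).trans ?_
      exact congrArg _ (X.presheaf.germ_res_apply _ _ _ b)

include hD hA in
theorem rep_unique (h : Rep f n z r m g D) (h' : Rep f n z r m g' D) : g = g' := by
  obtain ⟨U, hz, τ, t, h1, h2, h3⟩ := h
  obtain ⟨U', hz', τ', t', h1', h2', h3'⟩ := h'
  -- common open on which the representatives agree
  let U₀ := U ⊓ U'
  have hz₀ : z ∈ PrinPart.pr1 f n ⁻¹ᵁ U₀ := ⟨hz, hz'⟩
  obtain ⟨k1, k2, k3⟩ := Rep.restrict h1 h2 h3 (U' := U₀) inf_le_left hz₀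
  obtain ⟨k1', k2', k3'⟩ := Rep.restrict h1' h2' h3' (U' := U₀) inf_le_right hz₀
  obtain ⟨V₁, hV₁, hzV₁, hzero⟩ := exists_res_eq_zero f n
    (Phi f n U₀ (resT inf_le_left τ - resT inf_le_right τ')) z hz₀
    (by rw [map_sub, map_sub, k1, k1', sub_self])
  obtain ⟨V₂, hV₂, i₁, i₂, ht⟩ := F.presheaf.germ_eq (PrinPart.pr2 f n z) (mem2 hz₀) (mem2 hz₀) _ _
    (k2.trans k2'.symm)
  obtain ⟨V, W, hxW, e⟩ := PPSheaf.exists_affine_pair f (PrinPart.pr2 f n z)
  obtain ⟨_, ⟨W', hW', rfl⟩, hxW', hle⟩ := X.isBasis_affineOpens.exists_subset_of_mem_open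
    (show PrinPart.pr2 f n z ∈ (W.1 ⊓ V₁ ⊓ V₂ : X.Opens) from ⟨⟨hxW, mem2 hzV₁⟩, hV₂⟩)
    (W.1 ⊓ V₁ ⊓ V₂).isOpen
  have hW₁ : W' ≤ V₁ := fun y hy => (hle hy).1.2
  have hW₂ : W' ≤ V₂ := fun y hy => (hle hy).2
  have hzW' : z ∈ PrinPart.pr1 f n ⁻¹ᵁ W' := (PrinPart.preimage_pr1 f n W').ge hxW'
  have h0 : W' ≤ U₀ := hW₁.trans hV₁
  obtain ⟨-, -, l3⟩ := Rep.restrict k1 k2 k3 h0 hzW'
  obtain ⟨-, -, l3'⟩ := Rep.restrict k1' k2' k3' h0 hzW'
  rw [← l3, ← l3']
  congr 1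
  have et : F.presheaf.map (homOfLE h0).op (F.presheaf.map (homOfLE inf_le_left).op t) =
      F.presheaf.map (homOfLE h0).op (F.presheaf.map (homOfLE inf_le_right).op t') := by
    have := congrArg (F.presheaf.map (homOfLE hW₂).op) ht
    exact (Nrm6.resM_resM' (M := F) i₁ (homOfLE hW₂) (homOfLE h0) _).symm.trans
      (this.trans (Nrm6.resM_resM' (M := F) i₂ (homOfLE hW₂) (homOfLE h0) _))
  rw [et, ← sub_eq_zero, ← map_sub]
  refine Lam_eq_zero f n hD hA (V := V) (U := ⟨W', hW'⟩) (fun y hy => e (hle hy).1.1) _ _ ?_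
  show Phi f n W' _ = 0
  rw [map_sub, Phi_res, Phi_res f n h0, ← map_sub, ← map_sub]
  have := congrArg ((PrinPart.nbhd f n).presheaf.map
    (homOfLE ((PrinPart.pr1 f n).preimage_mono hW₁)).op) hzero
  rw [map_zero, ← CommRingCat.comp_apply, ← Functor.map_comp] at this
  exact this

include hD hA

omit hD hA in
/-- A common open for two representations. -/
theorem Rep.common {r r' : (PrinPart.nbhd f n).presheaf.stalk z} {m m' : St F (PrinPart.pr2 f n z)}
    (h : Rep f n z r m g D) (h' : Rep f n z r' m' g' D) :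
    ∃ (U : X.Opens) (hz : z ∈ PrinPart.pr1 f n ⁻¹ᵁ U) (τ τ' : Γ(X, U) ⊗[ℤ] Γ(X, U)) (t t' : Γ(F, U)),
      ((PrinPart.nbhd f n).presheaf.germ _ z hz (Phi f n U τ) = r ∧
        gm F (mem2 hz) t = m ∧ gm G (mem2 hz) (Lam D U t τ) = g) ∧
      ((PrinPart.nbhd f n).presheaf.germ _ z hz (Phi f n U τ') = r' ∧
        gm F (mem2 hz) t' = m' ∧ gm G (mem2 hz) (Lam D U t' τ') = g') := by
  obtain ⟨U, hz, τ, t, h1, h2, h3⟩ := h
  obtain ⟨U', hz', τ', t', h1', h2', h3'⟩ := h'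
  exact ⟨U ⊓ U', ⟨hz, hz'⟩, _, _, _, _, Rep.restrict h1 h2 h3 inf_le_left _,
    Rep.restrict h1' h2' h3' inf_le_right _⟩

theorem rep_add_right (h : Rep f n z r m g D) (h' : Rep f n z r m' g' D) :
    Rep f n z r (m + m') (g + g') D := by
  obtain ⟨U, hz, τ, τ', t, t', ⟨k1, k2, k3⟩, ⟨k1', k2', k3'⟩⟩ := Rep.common h h'
  refine ⟨U, hz, τ, t + t', k1, (map_add _ t t').trans (congrArg₂ (· + ·) k2 k2'), ?_⟩
  rw [Lam_add]
  refine (map_add _ _ _).trans (congrArg₂ (· + ·) k3 ?_)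
  exact rep_unique hD hA ⟨U, hz, τ, t', k1, k2', rfl⟩ ⟨U, hz, τ', t', k1', k2', k3'⟩

theorem rep_add_left (h : Rep f n z r m g D) (h' : Rep f n z r' m g' D) :
    Rep f n z (r + r') m (g + g') D := by
  obtain ⟨U, hz, τ, τ', t, t', ⟨k1, k2, k3⟩, ⟨k1', k2', k3'⟩⟩ := Rep.common h h'
  refine ⟨U, hz, τ + τ', t, ?_, k2, ?_⟩
  · rw [map_add, map_add, k1, k1']
  rw [map_add]
  refine (map_add _ _ _).trans (congrArg₂ (· + ·) k3 ?_)
  exact rep_unique hD hA ⟨U, hz, τ', t, k1', k2, rfl⟩ ⟨U, hz, τ', t', k1', k2', k3'⟩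

/-- The pairing. -/
noncomputable def rho (z : PrinPart.nbhd f n) :
    (PrinPart.nbhd f n).presheaf.stalk z →+ St F (PrinPart.pr2 f n z) →+ St G (PrinPart.pr2 f n z) :=
  AddMonoidHom.mk' (fun r => AddMonoidHom.mk' (fun m => (exists_rep (D := D) r m).choose) fun m m' =>
      rep_unique hD hA (exists_rep r (m + m')).choose_spec
        (rep_add_right hD hA (exists_rep r m).choose_spec (exists_rep r m').choose_spec))
    fun r r' => AddMonoidHom.ext fun m =>
      rep_unique hD hA (exists_rep (r + r') m).choose_spec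
        (rep_add_left hD hA (exists_rep r m).choose_spec (exists_rep r' m).choose_spec)

theorem rho_eq (h : Rep f n z r m g D) : rho hD hA z r m = g :=
  rep_unique hD hA (exists_rep r m).choose_spec h

theorem rho_smul_right (c : X.presheaf.stalk (PrinPart.pr2 f n z)) :
    rho hD hA z ((PrinPart.pr2 f n).stalkMap z c * r) m = rho hD hA z r (c • m) := by
  obtain ⟨U, hz, τ, t, h1, h2, h3⟩ := (exists_rep (D := D) r m).choose_spec
  obtain ⟨Vc, hc, c, rfl⟩ := X.presheaf.exists_germ_eq c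
  have hz₀ : z ∈ PrinPart.pr1 f n ⁻¹ᵁ (U ⊓ Vc) :=
    ⟨hz, show z ∈ PrinPart.pr1 f n ⁻¹ᵁ Vc from (PrinPart.preimage_pr1 f n Vc).ge hc⟩
  obtain ⟨k1, k2, -⟩ := Rep.restrict h1 h2 h3 inf_le_left hz₀
  let c' : Γ(X, U ⊓ Vc) := X.presheaf.map (homOfLE inf_le_right).op c
  let t' := F.presheaf.map (homOfLE (inf_le_left : U ⊓ Vc ≤ U)).op t
  let τ' := resT (inf_le_left : U ⊓ Vc ≤ U) τ
  have hc' : X.presheaf.germ (U ⊓ Vc) (PrinPart.pr2 f n z) (mem2 hz₀) c' =
      X.presheaf.germ Vc (PrinPart.pr2 f n z) hc c := X.presheaf.germ_res_apply _ _ _ c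
  have hrep : Rep f n z r (X.presheaf.germ Vc (PrinPart.pr2 f n z) hc c • m)
      (gm G (mem2 hz₀) (Lam D _ (c' • t') τ')) D :=
    ⟨_, hz₀, τ', c' • t', k1, by rw [gm_smul, hc', k2], rfl⟩
  rw [rho_eq hD hA hrep]
  refine rho_eq hD hA ⟨_, hz₀, τ' * (1 ⊗ₜ c'), t', ?_, k2, by rw [Lam_mul_right]⟩
  rw [map_mul, map_mul, k1, mul_comm]
  congr 1
  rw [Phi_tmul, map_one, one_mul, PPSheaf.germ_appLE_stalkMap, hc']

/-- The pairing on the tensor product. -/
noncomputable def liftRho (z : PrinPart.nbhd f n) :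
    (ModuleCat.extendScalars ((PrinPart.pr2 f n).stalkMap z).hom).obj (St F (PrinPart.pr2 f n z)) →+
      St G (PrinPart.pr2 f n z) :=
  let φ := ((PrinPart.pr2 f n).stalkMap z).hom
  letI := φ.toAlgebra
  TensorProduct.liftAddHom (rho hD hA z) fun c r m => by
    show rho hD hA z (φ c * (show (PrinPart.nbhd f n).presheaf.stalk z from r)) m = rho hD hA z r (c • m)
    exact rho_smul_right hD hA c

/-- The map on stalks. -/
noncomputable def stMap (z : PrinPart.nbhd f n) :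
    St ((Scheme.Modules.pullback (PrinPart.pr2 f n)).obj F) z →+ St G (PrinPart.pr2 f n z) :=
  (liftRho hD hA z).comp
    ((KFlatLib.stalkPullbackIso (PrinPart.pr2 f n) z).app F).toLinearEquiv.toLinearMap.toAddMonoidHom

theorem stMap_smul_pullSect (r : (PrinPart.nbhd f n).presheaf.stalk z) {U : X.Opens}
    (hU : z ∈ PrinPart.pr2 f n ⁻¹ᵁ U) (t : Γ(F, U)) :
    stMap hD hA z (r • gm ((Scheme.Modules.pullback (PrinPart.pr2 f n)).obj F) hU
      (OmegaSh.pullSect (PrinPart.pr2 f n) F U t)) = rho hD hA z r (gm F hU t) := by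
  let E := ((KFlatLib.stalkPullbackIso (PrinPart.pr2 f n) z).app F).toLinearEquiv
  have h1 : E (r • gm ((Scheme.Modules.pullback (PrinPart.pr2 f n)).obj F) hU
      (OmegaSh.pullSect (PrinPart.pr2 f n) F U t)) = r • _ :=
    (E.map_smul r _).trans (congrArg (r • ·)
      (stalkPullbackIso_gm (PrinPart.pr2 f n) F z hU t))
  show liftRho hD hA z (E _) = _
  rw [h1]
  erw [PPSheaf.smul_one_tmul]
  rfl

theorem stMap_smul (a : X.presheaf.stalk (PrinPart.pr1 f n z))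
    (c : X.presheaf.stalk (PrinPart.pr2 f n z)) (w : St ((Scheme.Modules.pullback (PrinPart.pr2 f n)).obj F) z)
    (hac : ∃ (U : X.Opens) (h1 : PrinPart.pr1 f n z ∈ U) (h2 : PrinPart.pr2 f n z ∈ U) (s : Γ(X, U)),
      X.presheaf.germ U _ h1 s = a ∧ X.presheaf.germ U _ h2 s = c) :
    stMap hD hA z ((PrinPart.pr1 f n).stalkMap z a • w) = c • stMap hD hA z w := by
  obtain ⟨U, hU1, hU2, s, rfl, rfl⟩ := hac
  have hw : w ∈ (⊤ : Submodule ((PrinPart.nbhd f n).presheaf.stalk z) _) := Submodule.mem_top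
  rw [← PPSheaf.span_pullSect_eq_top (PrinPart.pr2 f n) F z] at hw
  suffices key : ∀ r : (PrinPart.nbhd f n).presheaf.stalk z,
      stMap hD hA z ((PrinPart.pr1 f n).stalkMap z (X.presheaf.germ U _ hU1 s) • r • w) =
        X.presheaf.germ U _ hU2 s • stMap hD hA z (r • w) by simpa using key 1
  induction hw using Submodule.span_induction with
  | zero => intro r; simp only [smul_zero, map_zero]
  | add x y _ _ hx hy => intro r; simp only [smul_add, map_add, hx, hy]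
  | smul k x _ hx => intro r; rw [smul_smul r k x]; exact hx _
  | mem x hx =>
    obtain ⟨W, hW, t, rfl⟩ := hx
    intro r
    rw [smul_smul, stMap_smul_pullSect, stMap_smul_pullSect]
    obtain ⟨U', hz, τ, t', h1, h2, h3⟩ := (exists_rep (D := D) r (gm F hW t)).choose_spec
    have hz₀ : z ∈ PrinPart.pr1 f n ⁻¹ᵁ (U' ⊓ U) := ⟨hz, hU1⟩
    obtain ⟨k1, k2, k3⟩ := Rep.restrict h1 h2 h3 inf_le_left hz₀
    let s' : Γ(X, U' ⊓ U) := X.presheaf.map (homOfLE inf_le_right).op s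
    show _ = _ • (exists_rep (D := D) r (gm F hW t)).choose
    rw [← k3]
    refine rho_eq hD hA ⟨_, hz₀, (s' ⊗ₜ 1) * resT inf_le_left τ, _, ?_, k2, ?_⟩
    · rw [map_mul, map_mul, k1]
      congr 1
      rw [Phi_tmul, map_one, mul_one, Scheme.Hom.app_eq_appLE, PPSheaf.germ_appLE_stalkMap]
      exact congrArg _ (X.presheaf.germ_res_apply _ _ _ s)
    · rw [Lam_mul_left, gm_smul]
      exact congrArg (· • _) (X.presheaf.germ_res_apply _ _ _ s)

/-- `g` is the value at `σ`. -/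
def Val (U : X.Opens) (σ : Γ(PrinPart.PMod f n F, U)) (g : Γ(G, U)) : Prop :=
  ∀ (z : PrinPart.nbhd f n) (hz : z ∈ PrinPart.pr1 f n ⁻¹ᵁ U),
    stMap hD hA z (gm ((Scheme.Modules.pullback (PrinPart.pr2 f n)).obj F) hz (toM f n F U σ)) =
      gm G (mem2 hz) g

theorem val_dP (U : X.Opens) (t : Γ(F, U)) :
    Val hD hA U (PrinPart.dP f n F U t) (D.app (op U) t) := by
  intro z hz
  show stMap hD hA z (gm _ hz (PrinPart.dP f n F U t)) = _
  rw [PrinPart.dP_apply, gm_res]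
  rw [← one_smul ((PrinPart.nbhd f n).presheaf.stalk z)
    (gm ((Scheme.Modules.pullback (PrinPart.pr2 f n)).obj F) (U := PrinPart.pr2 f n ⁻¹ᵁ U) _
      (OmegaSh.pullSect (PrinPart.pr2 f n) F U t)), stMap_smul_pullSect]
  refine rho_eq hD hA ⟨U, hz, 1, t, by rw [map_one, map_one], rfl, ?_⟩
  show gm G _ (Lam D U t ((1 : Γ(X, U)) ⊗ₜ (1 : Γ(X, U)))) = _
  rw [Lam_tmul, one_smul, one_smul]

theorem val_smul {U : X.Opens} (a : Γ(X, U)) {σ : Γ(PrinPart.PMod f n F, U)} {g : Γ(G, U)}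
    (h : Val hD hA U σ g) : Val hD hA U (a • σ) (a • g) := by
  intro z hz
  rw [toM_smul, gm_smul, gm_smul, ← h z hz]
  refine Eq.trans (congrArg (stMap hD hA z) (congrArg (· • _) ?_))
    (stMap_smul hD hA _ _ _ ⟨U, hz, mem2 hz, a, rfl, rfl⟩)
  exact (Scheme.Hom.germ_stalkMap_apply (PrinPart.pr1 f n) U z hz a).symm

theorem val_add {U : X.Opens} {σ σ' : Γ(PrinPart.PMod f n F, U)} {g g' : Γ(G, U)}
    (h : Val hD hA U σ g) (h' : Val hD hA U σ' g') : Val hD hA U (σ + σ') (g + g') := fun z hz => by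
  rw [map_add, map_add, map_add, map_add, h z hz, h' z hz]

theorem val_res {U V : X.Opens} (e : V ≤ U) {σ : Γ(PrinPart.PMod f n F, U)} {g : Γ(G, U)}
    (h : Val hD hA U σ g) :
    Val hD hA V ((PrinPart.PMod f n F).presheaf.map (homOfLE e).op σ)
      (G.presheaf.map (homOfLE e).op g) := by
  intro z hz
  rw [gm_res, ← h z ((PrinPart.pr1 f n).preimage_mono e hz)]
  congr 1
  exact PPSheaf.gm_res' f n F e hz σ

theorem val_unique {U : X.Opens} {σ : Γ(PrinPart.PMod f n F, U)} {g g' : Γ(G, U)}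
    (h : Val hD hA U σ g) (h' : Val hD hA U σ g') : g = g' := by
  refine TopCat.Presheaf.section_ext ⟨G.presheaf, G.isSheaf⟩ U _ _ fun x hx => ?_
  have hx2 : PrinPart.pr2 f n (PrinPart.toNbhd f n x) = x := by
    rw [← Scheme.Hom.comp_apply, PrinPart.toNbhd_pr2]; rfl
  have hz : PrinPart.toNbhd f n x ∈ PrinPart.pr1 f n ⁻¹ᵁ U :=
    (PrinPart.preimage_pr1 f n U).ge (show PrinPart.pr2 f n _ ∈ U from hx2.symm ▸ hx)
  have key := (h _ hz).symm.trans (h' _ hz)
  revert key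
  generalize mem2 hz = hm
  revert hm
  rw [hx2]
  exact fun _ k => k

theorem exists_val (U : X.Opens) (σ : Γ(PrinPart.PMod f n F, U)) : ∃ g, Val hD hA U σ g := by
  let ι := {V : X.Opens // V ≤ U ∧ ∀ h : V ≤ U,
    ∃ g, Val hD hA V ((PrinPart.PMod f n F).presheaf.map (homOfLE h).op σ) g}
  choose g hg using fun i : ι => i.2.2 i.2.1
  obtain ⟨T, hT, -⟩ := TopCat.Sheaf.existsUnique_gluing' ⟨G.presheaf, G.isSheaf⟩
    (fun i : ι => i.1) U (fun i => homOfLE i.2.1)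
    (fun x hx => by
      obtain ⟨V, hV, hxV, hmem⟩ := PPSheaf.exists_mem_span f n F U σ x hx
      refine Opens.mem_iSup.2 ⟨⟨V, hV, fun _ => ?_⟩, hxV⟩
      suffices key : ∀ w ∈ Submodule.span Γ(X, V) (Set.range (PrinPart.dP f n F V)),
          ∃ g, Val hD hA V w g from key _ hmem
      intro w hw
      induction hw using Submodule.span_induction with
      | mem y hy => obtain ⟨t, rfl⟩ := hy; exact ⟨_, val_dP hD hA V t⟩
      | zero =>
        have h0 := val_dP hD hA V (0 : Γ(F, V))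
        rw [map_zero, map_zero] at h0
        exact ⟨_, h0⟩
      | add y y' _ _ hy hy' => exact ⟨_, val_add hD hA hy.choose_spec hy'.choose_spec⟩
      | smul c y _ hy => exact ⟨_, val_smul hD hA c hy.choose_spec⟩)
    g (fun i j => by
      have h1 := val_res hD hA (inf_le_left : i.1 ⊓ j.1 ≤ i.1) (hg i)
      have h2 := val_res hD hA (inf_le_right : i.1 ⊓ j.1 ≤ j.1) (hg j)
      rw [OmegaSh.resM_resM] at h1 h2
      exact val_unique hD hA h1 h2)
  refine ⟨T, fun z hz => ?_⟩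
  obtain ⟨V, hV, hxV, hmem⟩ := PPSheaf.exists_mem_span f n F U σ (PrinPart.pr2 f n z) (mem2 hz)
  have hVi : ∀ h : V ≤ U, ∃ g, Val hD hA V ((PrinPart.PMod f n F).presheaf.map (homOfLE h).op σ) g := by
    intro _
    suffices key : ∀ w ∈ Submodule.span Γ(X, V) (Set.range (PrinPart.dP f n F V)),
        ∃ g, Val hD hA V w g from key _ hmem
    intro w hw
    induction hw using Submodule.span_induction with
    | mem y hy => obtain ⟨t, rfl⟩ := hy; exact ⟨_, val_dP hD hA V t⟩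
    | zero =>
      have h0 := val_dP hD hA V (0 : Γ(F, V))
      rw [map_zero, map_zero] at h0
      exact ⟨_, h0⟩
    | add y y' _ _ hy hy' => exact ⟨_, val_add hD hA hy.choose_spec hy'.choose_spec⟩
    | smul c y _ hy => exact ⟨_, val_smul hD hA c hy.choose_spec⟩
  have hzV : z ∈ PrinPart.pr1 f n ⁻¹ᵁ V := (PrinPart.preimage_pr1 f n V).ge hxV
  have k := hg ⟨V, hV, hVi⟩ z hzV
  have e := congrArg (gm G (mem2 hzV)) (hT ⟨V, hV, hVi⟩)
  rw [← k] at e
  erw [gm_res] at e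
  rw [e]
  congr 1
  exact (PPSheaf.gm_res' f n F hV hzV σ).symm

/-- A linear-over-`S` operator with vanishing alternating sums is a differential operator. -/
theorem isDiffOpLE_of_altZero : PrinPart.IsDiffOpLE f F G n D := by
  let u : PrinPart.PMod f n F ⟶ G := ⟨PresheafOfModules.homMk
    { app := fun U => AddCommGrpCat.ofHom (AddMonoidHom.mk' (fun σ => (exists_val hD hA U.unop σ).choose)
        fun σ σ' => val_unique hD hA (exists_val hD hA U.unop (σ + σ')).choose_spec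
          (val_add hD hA (exists_val hD hA U.unop σ).choose_spec (exists_val hD hA U.unop σ').choose_spec))
      naturality := fun U V i => by
        ext σ
        exact val_unique hD hA (exists_val hD hA V.unop _).choose_spec
          (val_res hD hA i.unop.le (exists_val hD hA U.unop σ).choose_spec) }
    fun U a σ => val_unique hD hA (exists_val hD hA U.unop _).choose_spec
      (val_smul hD hA a (exists_val hD hA U.unop σ).choose_spec)⟩
  exact ⟨u, fun U t => val_unique hD hA (val_dP hD hA U t) (exists_val hD hA U _).choose_spec⟩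

end Groth.Agent.Nrm34
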